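import Cfsg.Agent.Lib.Biset.Characteristic

/-
The transfer of a saturated fusion system, through a characteristic model.
Main result: `exists_transfer`: for `ab : S →* A` with `A` commutative there are `τ : S →* A` and
`k` prime to `p` with `τ` invariant under all maps of the system and `τ z = (ab z⁻¹) ^ k` on the
centre of the system.
-/

set_option autoImplicit false

namespace Cfsg.Agent.Biset

open Cfsg Cfsg.FusionSystem Cfsg.Agent.Fusion
open scoped Classical Pointwise

variable {Ω : Type*} [Group Ω] {S : Subgroup Ω} {F : FusionSystem S}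

/-- Every element of the centre is fixed by extensions of every map. -/
theorem exists_extension_fixing_center {z : Ω} (hz : z ∈ F.center) {P : Subgroup Ω} {f : Ω → Ω}
    (hf : IsMap F P f) :
    ∃ f', IsMap F (P ⊔ Subgroup.zpowers z) f' ∧ (∀ x ∈ P, f' x = f x) ∧ f' z = z := by
  let Fix : Subgroup Ω :=
    { carrier := {z | z ∈ S ∧ ∀ (P : Subgroup Ω) (f : Ω → Ω), IsMap F P f →
        ∃ f', IsMap F (P ⊔ Subgroup.zpowers z) f' ∧ (∀ x ∈ P, f' x = f x) ∧ f' z = z}
      one_mem' := ⟨S.one_mem, fun P f h => ⟨f, by
        rw [show P ⊔ Subgroup.zpowers (1 : Ω) = P from by simp]; exact h, fun _ _ => rfl, h.map_one⟩⟩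
      mul_mem' := fun {a b} ha hb => ⟨S.mul_mem ha.1 hb.1, fun P f h => by
        obtain ⟨f₁, h₁, e₁, z₁⟩ := ha.2 P f h
        obtain ⟨f₂, h₂, e₂, z₂⟩ := hb.2 _ f₁ h₁
        have ha' : a ∈ P ⊔ Subgroup.zpowers a := le_sup_right (a := P) (Subgroup.mem_zpowers a)
        have haT : a ∈ P ⊔ Subgroup.zpowers a ⊔ Subgroup.zpowers b := le_sup_left (b := Subgroup.zpowers b) ha'
        have hbT : b ∈ P ⊔ Subgroup.zpowers a ⊔ Subgroup.zpowers b :=
          le_sup_right (a := P ⊔ Subgroup.zpowers a) (Subgroup.mem_zpowers b)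
        refine ⟨f₂, h₂.mono ?_, fun x hx => ?_, ?_⟩
        · exact sup_le (le_sup_left.trans le_sup_left)
            (Subgroup.zpowers_le.2 (mul_mem haT hbT))
        · rw [e₂ x (le_sup_left (b := Subgroup.zpowers a) hx), e₁ x hx]
        · rw [h₂.map_mul haT hbT, e₂ a ha', z₁, z₂]⟩
      inv_mem' := fun {a} ha => ⟨S.inv_mem ha.1, fun P f h => by
        obtain ⟨f₁, h₁, e₁, z₁⟩ := ha.2 P f h
        refine ⟨f₁, by rwa [Subgroup.zpowers_inv], e₁, ?_⟩
        rw [h₁.map_inv (le_sup_right (a := P) (Subgroup.mem_zpowers a)), z₁]⟩ }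
  have hle : F.center ≤ Fix := by
    refine sSup_le ?_
    rintro Q ⟨hQS, hQ⟩ q hq
    refine ⟨hQS hq, fun P f h => ?_⟩
    obtain ⟨φ, hφ, he⟩ := h
    obtain ⟨ψ, hψ, hψP, hψQ⟩ := hQ P φ hφ
    refine ⟨toFn ψ, (isMap_toFn hψ).mono (sup_le le_sup_left
      ((Subgroup.zpowers_le.2 hq).trans le_sup_right)), fun x hx => ?_, ?_⟩
    · rw [toFn_apply ψ (le_sup_left (b := Q) hx), ← he x hx]
      exact hψP ⟨x, hx⟩
    · rw [toFn_apply ψ (le_sup_right (a := P) hq)]
      exact hψQ ⟨q, hq⟩
  exact (hle hz).2 P f hf

theorem eq_of_mem_center {z : Ω} (hz : z ∈ F.center) {P : Subgroup Ω} {f : Ω → Ω}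
    (hf : IsMap F P f) (hzP : z ∈ P) : f z = z := by
  obtain ⟨f', -, he, hfix⟩ := exists_extension_fixing_center hz hf
  rw [← he z hzP, hfix]

/-- The right action on a model. -/
def rightRel (c : Subgroup (S × S) → ℕ) : Setoid (Model c) where
  r x y := ∃ b : S, ((1 : S), b) • x = y
  iseqv :=
    { refl := fun x => ⟨1, one_smul _ x⟩
      symm := fun {x y} ⟨b, hb⟩ => ⟨b⁻¹, by
        rw [← hb, smul_smul, Prod.mk_mul_mk, one_mul, inv_mul_cancel]
        exact one_smul _ x⟩
      trans := fun {x y z} ⟨b, hb⟩ ⟨d, hd⟩ => ⟨d * b, by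
        rw [← hd, ← hb, smul_smul, Prod.mk_mul_mk, one_mul]⟩ }

/-- The orbits of the right action. -/
abbrev ROrb (c : Subgroup (S × S) → ℕ) : Type _ := Quotient (rightRel c)

theorem comm_left_right {c : Subgroup (S × S) → ℕ} (a b : S) (x : Model c) :
    ((a, 1) : S × S) • ((1 : S), b) • x = ((1 : S), b) • ((a, 1) : S × S) • x := by
  rw [smul_smul, smul_smul, Prod.mk_mul_mk, Prod.mk_mul_mk]
  simp

/-- The left action on the right orbits. -/
def orbMap (c : Subgroup (S × S) → ℕ) (a : S) : ROrb c → ROrb c :=
  Quotient.map' (fun x => ((a, 1) : S × S) • x) fun x y ⟨b, hb⟩ => ⟨b, by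
    rw [← comm_left_right, hb]⟩

theorem orbMap_mul {c : Subgroup (S × S) → ℕ} (a b : S) (q : ROrb c) :
    orbMap c (a * b) q = orbMap c a (orbMap c b q) := by
  induction q using Quotient.inductionOn' with
  | h x =>
    show Quotient.mk'' (((a * b, 1) : S × S) • x) = Quotient.mk'' (((a, 1) : S × S) • ((b, 1) : S × S) • x)
    rw [smul_smul, Prod.mk_mul_mk, mul_one]

theorem orbMap_bijective (c : Subgroup (S × S) → ℕ) (a : S) : Function.Bijective (orbMap c a) := by
  have h1 : ∀ q, orbMap c 1 q = q := by
    intro q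
    induction q using Quotient.inductionOn' with
    | h x =>
      show Quotient.mk'' (((1 : S), (1 : S)) • x) = Quotient.mk'' x
      exact congrArg _ (one_smul (S × S) x)
  exact Function.bijective_iff_has_inverse.2 ⟨orbMap c a⁻¹,
    fun q => by rw [← orbMap_mul, inv_mul_cancel, h1],
    fun q => by rw [← orbMap_mul, mul_inv_cancel, h1]⟩

/-- A section of the right orbits. -/
def IsSection {c : Subgroup (S × S) → ℕ} (s : ROrb c → Model c) : Prop :=
  ∀ q, Quotient.mk'' (s q) = q

theorem exists_coord {c : Subgroup (S × S) → ℕ} {s : ROrb c → Model c} (hs : IsSection s)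
    (a : S) (q : ROrb c) :
    ∃ b : S, ((1 : S), b) • s (orbMap c a q) = ((a, 1) : S × S) • s q := by
  refine (Quotient.eq'' (s₁ := rightRel c)).1 ?_
  rw [hs]
  conv_lhs => rw [← hs q]
  rfl

/-- The coordinate of the left action with respect to a section. -/
noncomputable def coord {c : Subgroup (S × S) → ℕ} {s : ROrb c → Model c} (hs : IsSection s)
    (a : S) (q : ROrb c) : S := (exists_coord hs a q).choose

theorem coord_spec {c : Subgroup (S × S) → ℕ} {s : ROrb c → Model c} (hs : IsSection s)
    (a : S) (q : ROrb c) :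
    ((1 : S), coord hs a q) • s (orbMap c a q) = ((a, 1) : S × S) • s q :=
  (exists_coord hs a q).choose_spec

variable [Finite S]

theorem right_free {c : Subgroup (S × S) → ℕ} (hc : Supp F c) {b : S} {x : Model c}
    (h : ((1 : S), b) • x = x) : b = 1 := by
  have hfix : ∀ k ∈ Subgroup.zpowers ((1 : S), b), k • x = x := by
    intro k hk
    exact (Subgroup.zpowers_le.2 (MulAction.mem_stabilizer_iff.2 h)) hk
  exact congrArg Prod.snd ((hc.good_of_fixed hfix).eq_of_fst_eq (Subgroup.mem_zpowers _)
    (one_mem _) rfl)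

theorem coord_unique {c : Subgroup (S × S) → ℕ} (hc : Supp F c) {s : ROrb c → Model c}
    (hs : IsSection s) {a : S} {q : ROrb c} {b : S}
    (h : ((1 : S), b) • s (orbMap c a q) = ((a, 1) : S × S) • s q) : coord hs a q = b := by
  have h' := (coord_spec hs a q).trans h.symm
  have : b⁻¹ * coord hs a q = 1 := by
    refine right_free hc (x := s (orbMap c a q)) ?_
    calc ((1 : S), b⁻¹ * coord hs a q) • s (orbMap c a q)
        = ((1 : S), b⁻¹) • ((1 : S), coord hs a q) • s (orbMap c a q) := by
          rw [smul_smul, Prod.mk_mul_mk, one_mul]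
      _ = ((1 : S), b⁻¹) • ((1 : S), b) • s (orbMap c a q) := by rw [h']
      _ = s (orbMap c a q) := by
          rw [smul_smul, Prod.mk_mul_mk, one_mul, inv_mul_cancel]
          exact one_smul _ _
  exact (inv_mul_eq_one.1 this).symm

variable {A : Type*} [CommGroup A]

/-- The transfer with respect to a section. -/
noncomputable def transferVal {c : Subgroup (S × S) → ℕ} [Fintype (ROrb c)] (ab : S →* A)
    {s : ROrb c → Model c} (hs : IsSection s) (a : S) : A :=
  ∏ q, ab (coord hs a q)

theorem transferVal_mul {c : Subgroup (S × S) → ℕ} [Fintype (ROrb c)] (hc : Supp F c)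
    (ab : S →* A) {s : ROrb c → Model c} (hs : IsSection s) (a b : S) :
    transferVal ab hs (a * b) = transferVal ab hs a * transferVal ab hs b := by
  have key : ∀ q, coord hs (a * b) q = coord hs b q * coord hs a (orbMap c b q) := by
    intro q
    refine coord_unique hc hs ?_
    calc ((1 : S), coord hs b q * coord hs a (orbMap c b q)) • s (orbMap c (a * b) q)
        = ((1 : S), coord hs b q) • ((1 : S), coord hs a (orbMap c b q)) •
            s (orbMap c a (orbMap c b q)) := by
          rw [orbMap_mul, smul_smul, Prod.mk_mul_mk, one_mul]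
      _ = ((1 : S), coord hs b q) • ((a, 1) : S × S) • s (orbMap c b q) := by
          rw [coord_spec hs a]
      _ = ((a, 1) : S × S) • ((1 : S), coord hs b q) • s (orbMap c b q) :=
          (comm_left_right _ _ _).symm
      _ = ((a, 1) : S × S) • ((b, 1) : S × S) • s q := by rw [coord_spec hs b]
      _ = ((a * b, 1) : S × S) • s q := by rw [smul_smul, Prod.mk_mul_mk, mul_one]
  simp only [transferVal, key, map_mul, Finset.prod_mul_distrib]
  rw [mul_comm (∏ q, ab (coord hs a q))]
  congr 1
  exact Fintype.prod_equiv (Equiv.ofBijective _ (orbMap_bijective c b))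
    (fun q => ab (coord hs a (orbMap c b q))) (fun q => ab (coord hs a q)) fun q => rfl

theorem transferVal_section {c : Subgroup (S × S) → ℕ} [Fintype (ROrb c)] (hc : Supp F c)
    (ab : S →* A) {s s' : ROrb c → Model c} (hs : IsSection s) (hs' : IsSection s') (a : S) :
    transferVal ab hs' a = transferVal ab hs a := by
  have hd : ∀ q, ∃ d : S, ((1 : S), d) • s q = s' q := fun q =>
    (Quotient.eq'' (s₁ := rightRel c)).1 (by rw [hs, hs'])
  choose d hd using hd
  have key : ∀ q, coord hs' a q = d q * coord hs a q * (d (orbMap c a q))⁻¹ := by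
    intro q
    refine coord_unique hc hs' ?_
    calc ((1 : S), d q * coord hs a q * (d (orbMap c a q))⁻¹) • s' (orbMap c a q)
        = ((1 : S), d q * coord hs a q) • s (orbMap c a q) := by
          rw [← hd (orbMap c a q), smul_smul, Prod.mk_mul_mk, one_mul, inv_mul_cancel_right]
      _ = ((1 : S), d q) • ((1 : S), coord hs a q) • s (orbMap c a q) := by
          rw [smul_smul, Prod.mk_mul_mk, one_mul]
      _ = ((a, 1) : S × S) • s' q := by
          rw [coord_spec hs a q, ← hd q, comm_left_right]
  simp only [transferVal, key, map_mul, map_inv, Finset.prod_mul_distrib, Finset.prod_inv_distrib]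
  rw [Fintype.prod_equiv (Equiv.ofBijective _ (orbMap_bijective c a))
    (fun q => ab (d (orbMap c a q))) (fun q => ab (d q)) fun q => rfl]
  exact mul_inv_cancel_comm _ _

/-- The transfer of a saturated fusion system. -/
theorem exists_transfer {p : ℕ} [Fact p.Prime] (hS : IsPGroup p S) (hF : F.IsSaturated p)
    (ab : S →* A) :
    ∃ (τ : S →* A) (k : ℕ), ¬ p ∣ k ∧
      (∀ (P : Subgroup Ω) (f : Ω → Ω), IsMap F P f → ∀ u v : S, (u : Ω) ∈ P → (v : Ω) = f u →
        τ v = τ u) ∧
      ∀ z : S, (z : Ω) ∈ F.center → τ z = (ab z⁻¹) ^ k := by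
  obtain ⟨c, hc, hdeg⟩ := exists_characteristic hS hF
  haveI : Finite (ROrb c) := Quotient.finite _
  letI := Fintype.ofFinite (ROrb c)
  have hs : IsSection (c := c) Quotient.out := fun q => Quotient.out_eq q
  refine ⟨MonoidHom.mk' (transferVal ab hs) (transferVal_mul hc.1 ab hs),
    Fintype.card (ROrb c), fun hdvd => hdeg ?_, fun P f hf u v hu hv => ?_, fun z hz => ?_⟩
  · have e : ROrb c × S ≃ Model c := Equiv.ofBijective
      (fun x => ((1 : S), x.2) • Quotient.out x.1) ⟨?_, ?_⟩
    · rw [← Nat.card_congr e, Nat.card_prod, Nat.card_eq_fintype_card (α := ROrb c)]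
      exact Nat.mul_dvd_mul_right hdvd _
    · rintro ⟨q, b⟩ ⟨q', b'⟩ h
      have hq : q = q' := by
        have h' := congrArg (Quotient.mk'' (s₁ := rightRel c)) h
        have hcl : ∀ (b : S) (x : Model c),
            Quotient.mk'' (s₁ := rightRel c) (((1 : S), b) • x) = Quotient.mk'' x :=
          fun b x => (Quotient.eq'' (s₁ := rightRel c)).2 ((rightRel c).symm' ⟨b, rfl⟩)
        simp only [hcl] at h'
        rwa [hs q, hs q'] at h'
      subst hq
      have h1 : ((1 : S), b'⁻¹ * b) • Quotient.out q = Quotient.out q := by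
        calc ((1 : S), b'⁻¹ * b) • Quotient.out q
            = ((1 : S), b'⁻¹) • ((1 : S), b) • Quotient.out q := by
              rw [smul_smul, Prod.mk_mul_mk, one_mul]
          _ = ((1 : S), b'⁻¹) • ((1 : S), b') • Quotient.out q :=
              congrArg (fun y => ((1 : S), b'⁻¹) • y) h
          _ = Quotient.out q := by
              rw [smul_smul, Prod.mk_mul_mk, one_mul, inv_mul_cancel]
              exact one_smul _ _
      exact Prod.ext rfl (inv_mul_eq_one.1 (right_free hc.1 h1)).symm
    · intro x
      obtain ⟨b, hb⟩ := (Quotient.eq'' (s₁ := rightRel c)).1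
        (hs (Quotient.mk'' x))
      exact ⟨(Quotient.mk'' x, b), hb⟩
  · show transferVal ab hs v = transferVal ab hs u
    obtain ⟨e, he⟩ := hc.exists_equiv_of_isMap hf
    have hright : ∀ (b : S) (x : Model c), e (((1 : S), b) • x) = ((1 : S), b) • e x :=
      fun b => he 1 1 b P.one_mem (by rw [OneMemClass.coe_one, hf.map_one])
    have hright' : ∀ (b : S) (x : Model c), e.symm (((1 : S), b) • x) = ((1 : S), b) • e.symm x := by
      intro b x
      apply e.injective
      rw [hright, e.apply_symm_apply, e.apply_symm_apply]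
    let π : ROrb c ≃ ROrb c :=
      { toFun := Quotient.map' e fun x y ⟨b, hb⟩ => ⟨b, by rw [← hright, hb]⟩
        invFun := Quotient.map' e.symm fun x y ⟨b, hb⟩ => ⟨b, by rw [← hright', hb]⟩
        left_inv := fun q => by
          induction q using Quotient.inductionOn' with
          | h x => exact congrArg Quotient.mk'' (e.symm_apply_apply x)
        right_inv := fun q => by
          induction q using Quotient.inductionOn' with
          | h x => exact congrArg Quotient.mk'' (e.apply_symm_apply x) }
    have hs' : IsSection (c := c) fun q => e (Quotient.out (π.symm q)) := by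
      intro q
      conv_rhs => rw [← π.apply_symm_apply q, ← hs (π.symm q)]
      rfl
    rw [← transferVal_section hc.1 ab hs hs' v]
    have hπ : ∀ q, orbMap c v (π q) = π (orbMap c u q) := by
      intro q
      induction q using Quotient.inductionOn' with
      | h x => exact congrArg Quotient.mk'' (he u v 1 hu hv x).symm
    refine (Fintype.prod_equiv π _ _ fun q => ?_).symm
    congr 1
    refine (coord_unique hc.1 hs' ?_).symm
    show ((1 : S), coord hs u q) • e (Quotient.out (π.symm (orbMap c v (π q)))) =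
      ((v, 1) : S × S) • e (Quotient.out (π.symm (π q)))
    rw [hπ, π.symm_apply_apply, π.symm_apply_apply, ← hright, coord_spec hs u q, he u v 1 hu hv]
  · show transferVal ab hs z = _
    have hzc : ∀ g : S, z * g = g * z := fun g => Subtype.ext
      (Subgroup.mem_centralizer_iff.1 (F.center_le_centralizer hz) g g.2).symm
    have hzn : ∀ (n : ℤ) (g : S), z ^ n * g = g * z ^ n := fun n g =>
      (Commute.zpow_left (hzc g) n)
    -- if a power of `(z, z)` moves a point inside its right orbit, it fixes it
    have hfix : ∀ (n : ℤ) (b : S) (x : Model c),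
        ((z ^ n, z ^ n) : S × S) • x = ((1 : S), b) • x → b = 1 := by
      intro n b x h
      have h1 : ((z ^ n, b⁻¹ * z ^ n) : S × S) • x = x := by
        calc ((z ^ n, b⁻¹ * z ^ n) : S × S) • x
            = ((1 : S), b⁻¹) • ((z ^ n, z ^ n) : S × S) • x := by
              rw [smul_smul, Prod.mk_mul_mk, one_mul]
          _ = ((1 : S), b⁻¹) • ((1 : S), b) • x := by rw [h]
          _ = x := by
              rw [smul_smul, Prod.mk_mul_mk, one_mul, inv_mul_cancel]
              exact one_smul _ _
      have hfx : ∀ k ∈ Subgroup.zpowers ((z ^ n, b⁻¹ * z ^ n) : S × S), k • x = x := fun k hk =>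
        (Subgroup.zpowers_le.2 (MulAction.mem_stabilizer_iff.2 h1)) hk
      obtain ⟨g, hg, hge⟩ := hc.1.good_of_fixed hfx
      have hmem := Subgroup.mem_zpowers ((z ^ n, b⁻¹ * z ^ n) : S × S)
      have hzmem : ((z ^ n : S) : Ω) ∈ F.center := by
        rw [Subgroup.coe_zpow]
        exact zpow_mem hz n
      have h2 := (eq_of_mem_center hzmem hg (fst_mem_src hmem)).symm.trans (hge _ hmem)
      have h3 : b⁻¹ * z ^ n = z ^ n := (Subtype.ext h2).symm
      exact inv_eq_one.1 (mul_eq_right.1 h3)
    -- a section invariant under `(z, z)`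
    let wRel : Setoid (Model c) :=
      { r := fun x y => ∃ (n : ℤ) (b : S), ((z ^ n, z ^ n * b) : S × S) • x = y
        iseqv :=
          { refl := fun x => ⟨0, 1, by
              rw [zpow_zero, one_mul]
              exact one_smul _ x⟩
            symm := fun {x y} ⟨n, b, h⟩ => ⟨-n, b⁻¹, by
              rw [← h, smul_smul, Prod.mk_mul_mk, zpow_neg, inv_mul_cancel,
                ← zpow_neg, hzn (-n) b⁻¹, zpow_neg, mul_assoc, inv_mul_cancel_left, inv_mul_cancel]
              exact one_smul _ x⟩
            trans := fun {x y w} ⟨n, b, h⟩ ⟨m, d, h'⟩ => ⟨m + n, d * b, by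
              rw [← h', ← h, smul_smul, Prod.mk_mul_mk, zpow_add, mul_assoc (z ^ m) d,
                ← mul_assoc d, ← hzn n d]
              simp only [mul_assoc]⟩ } }
    let rep : Model c → Model c := fun x => Quotient.out (Quotient.mk wRel x)
    have hrep : ∀ x, ∃ n : ℤ, ∃ b : S,
        ((1 : S), b) • ((z ^ n, z ^ n) : S × S) • rep x = x := by
      intro x
      obtain ⟨n, b, h⟩ := Quotient.exact (s := wRel) (Quotient.out_eq (Quotient.mk wRel x))
      refine ⟨n, b, ?_⟩
      rw [smul_smul, Prod.mk_mul_mk, one_mul, ← hzn n b]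
      exact h
    choose nn bb hnb using hrep
    let s₁ : ROrb c → Model c := fun q =>
      ((z ^ nn (Quotient.out q), z ^ nn (Quotient.out q)) : S × S) • rep (Quotient.out q)
    have hs₁ : IsSection s₁ := by
      intro q
      refine Eq.trans ?_ (Quotient.out_eq q)
      exact (Quotient.eq'' (s₁ := rightRel c)).2 ⟨bb (Quotient.out q), hnb _⟩
    have key : ∀ q, coord hs₁ z q = z⁻¹ := by
      intro q
      refine coord_unique hc.1 hs₁ ?_
      set n := nn (Quotient.out q) with hn
      set q' := orbMap c z q with hq'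
      set m := nn (Quotient.out q') with hm
      -- same representative
      have hcls : ∀ q, Quotient.mk'' (s₁ := rightRel c) (s₁ q) = q := hs₁
      obtain ⟨b, hb⟩ : ∃ b : S, ((1 : S), b) • s₁ q' = ((z, 1) : S × S) • s₁ q := exists_coord hs₁ z q
      have hrepEq : rep (Quotient.out q') = rep (Quotient.out q) := by
        have h1 : wRel (Quotient.out q') (s₁ q') := by
          refine Setoid.trans (Setoid.symm (⟨0, bb (Quotient.out q'), ?_⟩ :
            wRel (s₁ q') (Quotient.out q'))) (Setoid.refl _)
          rw [zpow_zero, one_mul]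
          exact hnb _
        have h2 : wRel (s₁ q') (s₁ q) := by
          refine ⟨-1, z * b, ?_⟩
          have hgen : ∀ y y' : Model c, ((1 : S), b) • y' = ((z, 1) : S × S) • y →
              ((z ^ (-1 : ℤ), z ^ (-1 : ℤ) * (z * b)) : S × S) • y' = y := by
            intro y y' h
            calc ((z ^ (-1 : ℤ), z ^ (-1 : ℤ) * (z * b)) : S × S) • y'
                = ((z⁻¹, 1) : S × S) • ((1 : S), b) • y' := by
                  rw [smul_smul, Prod.mk_mul_mk, mul_one, one_mul, zpow_neg_one, inv_mul_cancel_left]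
              _ = ((z⁻¹, 1) : S × S) • ((z, 1) : S × S) • y := by rw [h]
              _ = y := by
                  rw [smul_smul, Prod.mk_mul_mk, mul_one, inv_mul_cancel]
                  exact one_smul _ _
          exact hgen _ _ hb
        have h3 : wRel (s₁ q) (Quotient.out q) :=
          ⟨0, bb (Quotient.out q), by rw [zpow_zero, one_mul]; exact hnb _⟩
        show Quotient.out (Quotient.mk wRel _) = Quotient.out (Quotient.mk wRel _)
        rw [Quotient.sound (Setoid.trans h1 (Setoid.trans h2 h3))]
      set x₀ := rep (Quotient.out q) with hx₀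
      have hs1q : s₁ q = ((z ^ n, z ^ n) : S × S) • x₀ := rfl
      have hs1q' : s₁ q' = ((z ^ m, z ^ m) : S × S) • x₀ := by
        show ((z ^ m, z ^ m) : S × S) • rep (Quotient.out q') = _
        rw [hrepEq]
      have hb1 : ((z ^ (n + 1 - m), z ^ (n + 1 - m)) : S × S) • x₀ = ((1 : S), z * b) • x₀ := by
        rw [hs1q, hs1q'] at hb
        calc ((z ^ (n + 1 - m), z ^ (n + 1 - m)) : S × S) • x₀
            = ((z ^ (-m), z * z ^ (-m)) : S × S) • ((z, 1) : S × S) • ((z ^ n, z ^ n) : S × S) • x₀ := by
              rw [smul_smul, smul_smul, Prod.mk_mul_mk, Prod.mk_mul_mk]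
              congr 2
              · rw [← zpow_add_one, ← zpow_add]; congr 1; ring
              · rw [mul_one, ← zpow_one_add, ← zpow_add]; congr 1; ring
          _ = ((z ^ (-m), z * z ^ (-m)) : S × S) • ((1 : S), b) • ((z ^ m, z ^ m) : S × S) • x₀ := by
              rw [hb]
          _ = _ := by
              rw [smul_smul, smul_smul, Prod.mk_mul_mk, Prod.mk_mul_mk]
              congr 2
              · rw [mul_one, ← zpow_add, neg_add_cancel, zpow_zero]
              · rw [mul_assoc z, hzn (-m) b, mul_assoc, mul_assoc, ← zpow_add, neg_add_cancel,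
                  zpow_zero, mul_one]
      have hzb : b = z⁻¹ := eq_inv_of_mul_eq_one_right (hfix _ _ _ hb1)
      rw [← hzb]
      exact hb
    rw [← transferVal_section hc.1 ab hs hs₁ z, transferVal]
    simp only [key, Finset.prod_const, Finset.card_univ]

end Cfsg.Agent.Biset
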