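import Cfsg.Agent.Lib.Biset.Twisted

/-
Characteristic models of saturated fusion systems.
Main result: `exists_characteristic`: a saturated system over a finite `p`-group has a stable
model `c` with `p * |S|` not dividing the number of points (degree prime to `p`).
-/

set_option autoImplicit false

namespace Cfsg.Agent.Biset

open Cfsg Cfsg.FusionSystem Cfsg.Agent.Fusion
open scoped Classical Pointwise

variable {Ω : Type*} [Group Ω] {S : Subgroup Ω} [Finite S] {F : FusionSystem S} {p : ℕ}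

theorem card_model (c : Subgroup (S × S) → ℕ) [Fintype (Subgroup (S × S))] :
    Nat.card (Model c) = ∑ L, c L * L.index := by
  show Nat.card (Σ L : Subgroup (S × S), Fin (c L) × ((S × S) ⧸ L)) = _
  rw [Nat.card_sigma]
  simp [Nat.card_prod, Subgroup.index]

theorem mu_self_eq_index {G : Type*} [Group G] [Finite G] (K : Subgroup G) :
    mu K K = (K.subgroupOf (Subgroup.normalizer (K : Set G))).index := by
  show _ = Nat.card (_ ⧸ _)
  refine Eq.trans ?_ (Nat.card_congr (Sylow.fixedPointsMulLeftCosetsEquivQuotient K))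
  exact Nat.card_congr (Equiv.subtypeEquivRight fun x =>
    ⟨fun h k => h k.1 k.2, fun h k hk => h ⟨k, hk⟩⟩)

theorem mu_self_dvd {G : Type*} [Group G] [Finite G] (K : Subgroup G) : mu K K ∣ Nat.card G := by
  rw [mu_self_eq_index]
  exact (Subgroup.index_dvd_card _).trans (Subgroup.card_subgroup_dvd_card _)

/-- The diagonal over `P`. -/
def dg (P : Subgroup Ω) : Subgroup (S × S) :=
  (P.subgroupOf S).map (MonoidHom.prod (MonoidHom.id S) (MonoidHom.id S))

theorem src_dg {P : Subgroup Ω} (hP : P ≤ S) : src (dg (S := S) P) = P := by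
  refine le_antisymm ?_ fun x hx => ?_
  · rintro _ ⟨_, ⟨u, hu, rfl⟩, rfl⟩
    exact hu
  · exact ⟨_, ⟨⟨x, hP hx⟩, hx, rfl⟩, rfl⟩

theorem good_dg (F : FusionSystem S) {P : Subgroup Ω} (hP : P ≤ S) : Good F (dg P) :=
  ⟨fun x => x, (src_dg hP).symm ▸ IsMap.id hP, by rintro _ ⟨u, -, rfl⟩; rfl⟩

theorem isInvt_fixIn_of_normal {G X : Type*} [Group G] [MulAction G X] {K : Subgroup G}
    [hK : K.Normal] : IsInvt G (fixIn K (Set.univ : Set X)) := by
  rintro g x ⟨-, hx⟩
  refine ⟨trivial, fun k hk => ?_⟩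
  have := hx _ (hK.conj_mem k hk g⁻¹)
  simp only [mul_smul, inv_inv] at this
  exact inv_smul_eq_iff.1 this

theorem fixIn_fixIn_eq {G X : Type*} [Group G] [MulAction G X] (L K : Subgroup G) :
    fixIn L (fixIn K (Set.univ : Set X)) = fixIn (L ⊔ K) (Set.univ : Set X) := by
  ext x
  constructor
  · rintro ⟨⟨-, hK⟩, hL⟩
    refine ⟨trivial, fun g hg => ?_⟩
    have hle : L ⊔ K ≤ MulAction.stabilizer G x := sup_le hL hK
    exact hle hg
  · rintro ⟨-, h⟩
    exact ⟨⟨trivial, fun k hk => h k (le_sup_right (a := L) hk)⟩,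
      fun l hl => h l (le_sup_left (b := K) hl)⟩

/-- The divisibility needed to equalise marks. -/
theorem mark_modEq [Fact p.Prime] (hS : IsPGroup p S) (hF : F.IsSaturated p)
    {c : Subgroup (S × S) → ℕ} (hsupp : Supp F c) {K : Subgroup (S × S)}
    (hst : IsStableAbove F c (Nat.card K + 1)) (hK : Good F K) {P : Subgroup Ω}
    (hP : F.IsFullyNormalized P) (hc : F.IsConj (src K) P) :
    mark c K ≡ mark c (dg P) [MOD mu K K] := by
  obtain ⟨α, hα, he⟩ := hK
  have hR : F.IsConj (img α (src K)) P :=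
    isConj_trans (isConj_symm (isConj_iff.2 ⟨α, hα.isIso⟩)) hc
  obtain ⟨g, hg, hgR, -⟩ := exists_normalizer_map hS (fullyAutomized_of_fullyNormalized hS hF hP)
    (receptive_of_fullyNormalized hS hF hP) hR
  have hgiso : IsIso F (img α (src K)) P g := ⟨hg.mono (le_normalizerIn hα.img_le_S), hgR⟩
  have hγ : IsIso F (src K) P (fun x => g (α x)) := hα.isIso.trans hgiso
  obtain ⟨γ', hγ', hγe⟩ :=
    (isReceptive_iff.1 (receptive_of_fullyNormalized hS hF hP)).2 _ _ hγ
  set N := Subgroup.normalizer (K : Set (S × S)) with hN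
  haveI := finite_of_le (S := S) (src_le K)
  haveI := finite_of_le (S := S) hα.img_le_S
  have hconj : ∀ n ∈ N, ∀ x ∈ src K, (n.1 : Ω) * x * (n.1 : Ω)⁻¹ ∈ src K ∧
      α ((n.1 : Ω) * x * (n.1 : Ω)⁻¹) = n.2 * α x * (n.2 : Ω)⁻¹ := by
    intro n hn x hx
    obtain ⟨a, ha, rfl⟩ := mem_src.1 hx
    have hmem : n * a * n⁻¹ ∈ K := (Subgroup.mem_normalizer_iff.1 hn a).1 ha
    refine ⟨fst_mem_src hmem, ?_⟩
    rw [he a ha]
    exact he _ hmem
  have hN2 : ∀ n ∈ N, (n.2 : Ω) ∈ normalizerIn S (img α (src K)) := by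
    intro n hn
    refine mem_normalizerIn_of_conj n.2.2 fun y hy => ?_
    obtain ⟨x, hx, rfl⟩ := (hα.mem_img_iff le_rfl).1 hy
    rw [← (hconj n hn x hx).2]
    exact hα.mem_img (hconj n hn x hx).1
  have hN1 : ∀ n ∈ N, (n.1 : Ω) ∈ Nx S (src K) (fun x => g (α x)) := by
    intro n hn
    refine mem_Nx.2 ⟨mem_normalizerIn_of_conj n.1.2 fun x hx => (hconj n hn x hx).1,
      g n.2, hg.mem (hN2 n hn), fun x hx => ?_⟩
    rw [(hconj n hn x hx).2, hg.map_conj (hN2 n hn) (le_normalizerIn hα.img_le_S (hα.mem_img hx))]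
  let θ : N →* S × S := MonoidHom.mk'
    (fun n => (⟨γ' (n.1.1 : Ω), hγ'.mem (hN1 n.1 n.2)⟩, ⟨g (n.1.2 : Ω), hg.mem (hN2 n.1 n.2)⟩))
    (fun a b => Prod.ext (Subtype.ext (hγ'.map_mul (hN1 a.1 a.2) (hN1 b.1 b.2)))
      (Subtype.ext (hg.map_mul (hN2 a.1 a.2) (hN2 b.1 b.2))))
  set K' := K.subgroupOf N with hK'
  haveI : K'.Normal := Subgroup.normal_in_normalizer
  have hKN : K'.map N.subtype = K := Subgroup.map_subgroupOf_eq_of_le Subgroup.le_normalizer
  have hKθ : K'.map θ = dg P := by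
    ext b
    constructor
    · rintro ⟨n, hn, rfl⟩
      have hn1 : (n.1.1 : Ω) ∈ src K := fst_mem_src hn
      have h1 : γ' (n.1.1 : Ω) = g (α n.1.1) := hγe _ hn1
      have h2 : g (α n.1.1) = g n.1.2 := congrArg g (he n.1 hn)
      refine ⟨⟨γ' (n.1.1 : Ω), hγ'.mem (hN1 n.1 n.2)⟩, ?_, ?_⟩
      · show γ' (n.1.1 : Ω) ∈ P
        rw [h1]
        exact hγ.mem hn1
      · exact Prod.ext rfl (Subtype.ext (h1.trans h2))
    · rintro ⟨u, hu, rfl⟩
      obtain ⟨x, hx, hxu⟩ := hγ.exists_eq (show (u : Ω) ∈ P from hu)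
      obtain ⟨a, ha, rfl⟩ := mem_src.1 hx
      refine ⟨⟨a, Subgroup.le_normalizer ha⟩, ha, Prod.ext (Subtype.ext ?_) (Subtype.ext ?_)⟩
      · exact (hγe _ hx).trans hxu
      · show g (a.2 : Ω) = u
        rw [← he a ha]
        exact hxu
  rw [mu_self_eq_index]
  have key := card_modEq_of_marks (G := N) (X := Pull N.subtype (Model c)) (Y := Pull θ (Model c))
    (K := K') (isInvt_fixIn_of_normal (K := K')) (isInvt_fixIn_of_normal (K := K'))
    (fun x hx => le_stabilizer_of_mem hx) (fun x hx => le_stabilizer_of_mem hx) ?_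
  · rwa [ncard_fixIn_pull, ncard_fixIn_pull, hKN, hKθ] at key
  intro L hL
  rw [fixIn_fixIn_eq, fixIn_fixIn_eq, ncard_fixIn_pull, ncard_fixIn_pull]
  obtain ⟨hiff, hconjsrc⟩ := good_transport_iff (F := F)
    (K := (L ⊔ K').map N.subtype) (K' := (L ⊔ K').map θ) hγ' hg
    (by rintro _ ⟨n, -, rfl⟩; exact ⟨hN1 n.1 n.2, hN2 n.1 n.2⟩)
    (by rintro _ ⟨n, hn, rfl⟩; exact ⟨θ n, ⟨n, hn, rfl⟩, rfl, rfl⟩)
    (by rintro _ ⟨n, hn, rfl⟩; exact ⟨N.subtype n, ⟨n, hn, rfl⟩, rfl, rfl⟩)
  by_cases h : Good F ((L ⊔ K').map N.subtype)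
  · refine hst _ _ h (hiff.1 h) ?_ (hconjsrc h)
    have hle : K ≤ (L ⊔ K').map N.subtype := hKN ▸ Subgroup.map_mono le_sup_right
    refine Nat.succ_le_of_lt (lt_of_le_of_ne (Subgroup.card_le_of_le hle) fun e => hL ?_)
    have heq := Subgroup.eq_of_le_of_card_ge hle e.ge
    refine le_sup_left.trans (b := L ⊔ K') ?_
    conv_rhs => rw [hK', heq]
    exact fun x hx => ⟨x, hx, rfl⟩
  · rw [hsupp.mark_eq_zero h, hsupp.mark_eq_zero fun h' => h (hiff.2 h')]

/-- A representative of a set of subgroups. -/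
noncomputable def pickRep {G : Type*} [Group G] (C : Set (Subgroup G)) : Subgroup G :=
  if h : C.Nonempty then h.choose else ⊥

/-- The class of a subgroup. -/
def classSet {G : Type*} [Group G] (K : Subgroup G) : Set (Subgroup G) :=
  {L | ∃ g : G, L = K.map (MulAut.conj g).toMonoidHom}

theorem classSet_conj {G : Type*} [Group G] (K : Subgroup G) (g : G) :
    classSet (K.map (MulAut.conj g).toMonoidHom) = classSet K := by
  have hc : ∀ a b : G, (K.map (MulAut.conj a).toMonoidHom).map (MulAut.conj b).toMonoidHom =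
      K.map (MulAut.conj (b * a)).toMonoidHom := by
    intro a b
    rw [Subgroup.map_map]
    congr 1
    ext x
    simp
  ext L
  constructor
  · rintro ⟨h, rfl⟩
    exact ⟨h * g, hc g h⟩
  · rintro ⟨h, rfl⟩
    exact ⟨h * g⁻¹, by rw [hc, inv_mul_cancel_right]⟩

theorem exists_conj_rep {G : Type*} [Group G] (K : Subgroup G) :
    ∃ g : G, pickRep (classSet K) = K.map (MulAut.conj g).toMonoidHom := by
  have h : (classSet K).Nonempty := ⟨K, 1, by
    refine (Subgroup.map_id K).symm.trans ?_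
    congr 1
    ext x
    simp⟩
  rw [pickRep, dif_pos h]
  exact h.choose_spec

/-- A fully normalized representative of the class of `Q`. -/
noncomputable def tgt (F : FusionSystem S) (Q : Subgroup Ω) : Subgroup Ω :=
  pickRep {R | F.IsConj Q R ∧ F.IsFullyNormalized R}

theorem tgt_spec (F : FusionSystem S) {Q : Subgroup Ω} (hQ : Q ≤ S) :
    F.IsConj Q (tgt F Q) ∧ F.IsFullyNormalized (tgt F Q) := by
  obtain ⟨R, hR⟩ := exists_fullyNormalized F hQ
  have h : {R | F.IsConj Q R ∧ F.IsFullyNormalized R}.Nonempty := ⟨R, hR⟩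
  rw [tgt, pickRep, dif_pos h]
  exact h.choose_spec

theorem tgt_eq {Q Q' : Subgroup Ω} (h : F.IsConj Q Q') : tgt F Q = tgt F Q' := by
  unfold tgt
  congr 1
  ext R
  exact and_congr_left' ⟨isConj_trans (isConj_symm h), isConj_trans h⟩

theorem mark_eq_zero_of_small {d : Subgroup (S × S) → ℕ} {K : Subgroup (S × S)}
    (h : ∀ L, d L ≠ 0 → Nat.card L < Nat.card K) : mark d K = 0 := by
  haveI := Fintype.ofFinite (Subgroup (S × S))
  rw [mark_eq]
  refine Finset.sum_eq_zero fun L _ => ?_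
  rcases eq_or_ne (d L) 0 with h0 | h0
  · simp [h0]
  · rw [mu_eq_zero_of_card_lt (h L h0), mul_zero]

theorem dvd_index_of_lt [Fact p.Prime] (hS : IsPGroup p S) {L : Subgroup (S × S)}
    (h : Nat.card L < Nat.card S) : p * Nat.card S ∣ L.index := by
  obtain ⟨a, ha⟩ := hS.exists_card_eq
  have hSS : Nat.card (S × S) = p ^ (a + a) := by rw [Nat.card_prod, ha, pow_add]
  obtain ⟨l, -, hl⟩ := (Nat.dvd_prime_pow Fact.out).1
    (hSS ▸ L.card_subgroup_dvd_card)
  have hlt : l < a := (Nat.pow_lt_pow_iff_right (Fact.out : p.Prime).one_lt).1 (by rw [← hl, ← ha]; exact h)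
  have hi := L.card_mul_index
  rw [hl, hSS, show a + a = l + (a + a - l) by omega, pow_add] at hi
  rw [Nat.eq_of_mul_eq_mul_left (pow_pos (Fact.out : p.Prime).pos l) hi, ha, ← pow_succ']
  exact pow_dvd_pow p (by omega)

/-- The equalisation step. -/
theorem exists_step [Fact p.Prime] (hS : IsPGroup p S) (hF : F.IsSaturated p)
    {c : Subgroup (S × S) → ℕ} {n : ℕ} (hsupp : Supp F c) (hst : IsStableAbove F c (n + 1))
    (hn : n < Nat.card S) (hdeg : ¬ p * Nat.card S ∣ Nat.card (Model c)) :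
    ∃ c' : Subgroup (S × S) → ℕ, Supp F c' ∧ IsStableAbove F c' n ∧
      ¬ p * Nat.card S ∣ Nat.card (Model c') := by
  haveI := Fintype.ofFinite (Subgroup (S × S))
  let top : ℕ := Finset.univ.sup fun L : Subgroup (S × S) => mark c L
  let M : Subgroup (S × S) → ℕ := fun K =>
    mark c (dg (tgt F (src K))) + Nat.card (S × S) * top
  let d : Subgroup (S × S) → ℕ := fun L =>
    if Good F L ∧ Nat.card L = n ∧ pickRep (classSet L) = L then (M L - mark c L) / mu L L else 0
  have hd : ∀ L, d L ≠ 0 → Good F L ∧ Nat.card L = n ∧ pickRep (classSet L) = L := fun L hL => by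
    by_contra h
    exact hL (if_neg h)
  have hdiv : ∀ L, Good F L → Nat.card L = n → mark c L ≤ M L ∧ mu L L ∣ M L - mark c L := by
    intro L hL hc
    have hspec := tgt_spec F (src_le L)
    have hmod := mark_modEq hS hF hsupp (hc ▸ hst) hL hspec.2 hspec.1
    have hle : mark c L ≤ Nat.card (S × S) * top :=
      (Finset.le_sup (f := fun L : Subgroup (S × S) => mark c L) (Finset.mem_univ L)).trans
        (Nat.le_mul_of_pos_left _ Nat.card_pos)
    refine ⟨hle.trans (Nat.le_add_left _ _), ?_⟩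
    rw [← Nat.modEq_iff_dvd' (hle.trans (Nat.le_add_left _ _))]
    have h0 : Nat.card (S × S) * top ≡ 0 [MOD mu L L] :=
      Nat.modEq_zero_iff_dvd.2 (Dvd.dvd.mul_right (mu_self_dvd L) _)
    exact hmod.trans (h0.symm.add_left _)
  have hval : ∀ K, Good F K → Nat.card K = n → mark c K + mark d K = M K := by
    intro K hK hc
    obtain ⟨g, hg⟩ := exists_conj_rep K
    set R := pickRep (classSet K)
    have hcs : classSet R = classSet K := by rw [hg, classSet_conj]
    have hR : Good F R ∧ F.IsConj (src K) (src R) := hg ▸ hK.conj g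
    have hRc : Nat.card R = n := by rw [hg, card_map_conj, hc]
    have hMR : M R = M K := by simp only [M, tgt_eq hR.2]
    have hmR : mark c R = mark c K := by rw [hg, mark_conj]
    have hmuR : mu R K = mu R R := by
      conv_rhs => rw [hg, ← hg, hg]
      rw [mu_conj_right, ← hg]
    rw [mark_eq d, Finset.sum_eq_single R]
    · rw [show d R = (M R - mark c R) / mu R R from if_pos ⟨hR.1, hRc, by rw [hcs]⟩, hmuR,
        Nat.div_mul_cancel (hdiv R hR.1 hRc).2, hMR, hmR, Nat.add_sub_cancel' (hdiv K hK hc).1]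
    · intro L _ hL
      rcases eq_or_ne (d L) 0 with h0 | h0
      · simp [h0]
      rcases eq_or_ne (mu L K) 0 with h1 | h1
      · simp [h1]
      exfalso
      obtain ⟨-, hLc, hLrep⟩ := hd L h0
      obtain ⟨k, hk⟩ := eq_conj_of_mu_ne_zero (hLc.trans hc.symm) h1
      apply hL
      show L = pickRep (classSet K)
      rw [hk, classSet_conj, hLrep]
    · exact fun h => absurd (Finset.mem_univ R) h
  refine ⟨fun L => 1 * c L + d L, fun L hL => ?_, fun K K' hK hK' hle hconj => ?_, fun hdvd => ?_⟩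
  · rcases Nat.eq_zero_or_pos (c L) with h | h
    · exact (hd L (by simpa [h] using hL)).1
    · exact hsupp L h.ne'
  · have hcard : Nat.card K = Nat.card K' := by
      obtain ⟨f, hf⟩ := isConj_iff.1 hconj
      rw [← hK.card_src, ← hK'.card_src, hf.card_eq]
    rw [mark_add_smul, mark_add_smul, one_mul, one_mul]
    rcases eq_or_lt_of_le hle with h | h
    · rw [hval K hK h.symm, hval K' hK' (hcard ▸ h.symm)]
      simp only [M, tgt_eq hconj]
    · rw [mark_eq_zero_of_small fun L hL => (hd L hL).2.1.trans_lt h,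
        mark_eq_zero_of_small fun L hL => (hd L hL).2.1.trans_lt (hcard ▸ h),
        hst K K' hK hK' (by omega) hconj]
  · apply hdeg
    rw [card_model] at hdvd ⊢
    simp only [one_mul, add_mul, Finset.sum_add_distrib] at hdvd
    refine (Nat.dvd_add_left (Finset.dvd_sum fun L _ => ?_)).1 hdvd
    rcases eq_or_ne (d L) 0 with h0 | h0
    · simp [h0]
    · exact Dvd.dvd.mul_left (dvd_index_of_lt hS ((hd L h0).2.1.trans_lt hn)) _

/-- The twisted diagonal of an automorphism of `S`. -/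
def gA (α : MulAut S) : Subgroup (S × S) :=
  (⊤ : Subgroup S).map (MonoidHom.prod (MonoidHom.id S) α.toMonoidHom)

theorem mem_gA {α : MulAut S} {a : S × S} : a ∈ gA α ↔ α a.1 = a.2 :=
  ⟨by rintro ⟨u, -, rfl⟩; rfl, fun h => ⟨a.1, trivial, Prod.ext rfl h⟩⟩

theorem card_gA (α : MulAut S) : Nat.card (gA α) = Nat.card S :=
  ((Nat.card_congr ((⊤ : Subgroup S).equivMapOfInjective
    (MonoidHom.prod (MonoidHom.id S) α.toMonoidHom)
      fun a b h => congrArg Prod.fst h).toEquiv).symm).trans Subgroup.card_top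

theorem src_gA (α : MulAut S) : src (gA α) = S :=
  le_antisymm (src_le _) fun x hx => ⟨(⟨x, hx⟩, α ⟨x, hx⟩), mem_gA.2 rfl, rfl⟩

theorem good_gA {α : MulAut S} (hα : α ∈ F.autGroup S) : Good F (gA α) :=
  ⟨autFn α, (src_gA α).symm ▸ (mem_autGroup_iff le_rfl).1 hα, fun a ha => by
    rw [autFn_apply α a.1.2, ← mem_gA.1 ha]⟩

theorem mu_gA (α : MulAut S) : mu (gA α) (gA α) = mu (gA (1 : MulAut S)) (gA (1 : MulAut S)) := by
  have h : gA α = (gA (1 : MulAut S)).map ((MulEquiv.refl S).prodCongr α).toMonoidHom := by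
    rw [gA, gA, Subgroup.map_map]
    rfl
  rw [h, mu_map_equiv]

theorem exists_base [Fact p.Prime] (hS : IsPGroup p S) (hF : F.IsSaturated p) :
    ∃ c : Subgroup (S × S) → ℕ, Supp F c ∧ IsStableAbove F c (Nat.card S) ∧
      ¬ p * Nat.card S ∣ Nat.card (Model c) := by
  haveI := Fintype.ofFinite (Subgroup (S × S))
  haveI := finite_mulAut (S := S) (P := S) le_rfl
  set I := (Cfsg.Inn S).subgroupOf (F.autGroup S) with hI
  haveI : I.Normal := by
    refine ⟨fun x hx g => ?_⟩
    obtain ⟨u, hu⟩ := hx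
    refine ⟨(g : MulAut S) u, ?_⟩
    show MulAut.conj ((g : MulAut S) u) = g * (x : MulAut S) * (g : MulAut S)⁻¹
    have hu' : MulAut.conj u = (x : MulAut S) := hu
    rw [← hu']
    ext y
    simp [MulAut.mul_apply]
  letI : Fintype (F.autGroup S ⧸ I) := Fintype.ofFinite _
  let gq : F.autGroup S ⧸ I → Subgroup (S × S) := fun q => gA (q.out : MulAut S)
  let c : Subgroup (S × S) → ℕ := fun L => (Finset.univ.filter fun q => gq q = L).card
  have hsum : ∀ G : Subgroup (S × S) → ℕ, ∑ L, c L * G L = ∑ q, G (gq q) := by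
    intro G
    rw [← Finset.sum_fiberwise (Finset.univ) gq (fun q => G (gq q))]
    refine Finset.sum_congr rfl fun L _ => ?_
    rw [Finset.sum_congr rfl (g := fun _ => G L) fun q hq => by rw [(Finset.mem_filter.1 hq).2],
      Finset.sum_const, smul_eq_mul]
  refine ⟨c, fun L hL => ?_, ?_, ?_⟩
  · obtain ⟨q, hq⟩ := Finset.card_ne_zero.1 hL
    exact (Finset.mem_filter.1 hq).2 ▸ good_gA q.out.2
  · have hmain : ∀ K, Good F K → Nat.card S ≤ Nat.card K →
        mark c K = mu (gA (1 : MulAut S)) (gA (1 : MulAut S)) := by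
      intro K hK hle
      obtain ⟨f, hf, he⟩ := id hK
      have hsrc : src K = S := eq_of_le_of_card le_rfl (src_le K) (by rw [hK.card_src]; exact hle)
      rw [hsrc] at hf
      have hiso : IsIso F S S f := ⟨hf, eq_of_le_of_card le_rfl hf.img_le_S (hf.card_img le_rfl).ge⟩
      obtain ⟨α, hα, hαe⟩ := exists_aut_of_isIso hiso
      have hKα : K = gA α := by
        refine Subgroup.eq_of_le_of_card_ge (fun a ha => mem_gA.2 (Subtype.ext ?_))
          ((card_gA α).trans_le hle)
        rw [hαe a.1, he a ha]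
      set q₀ : F.autGroup S ⧸ I := ((⟨α, hα⟩ : F.autGroup S) : F.autGroup S ⧸ I)
      obtain ⟨u, hu⟩ : ((q₀.out⁻¹ * ⟨α, hα⟩ : F.autGroup S) : MulAut S) ∈ Cfsg.Inn S :=
        (QuotientGroup.eq (s := I)).1 (QuotientGroup.out_eq' q₀)
      have hαu : ∀ x : S, α x = (q₀.out : MulAut S) (u * x * u⁻¹) := by
        intro x
        have h := congrArg (fun z : MulAut S => (q₀.out : MulAut S) (z x)) hu
        simp only [Subgroup.coe_mul, Subgroup.coe_inv, MulAut.mul_apply, MulAut.apply_inv_self] at h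
        exact h.symm
      have hKconj : K = (gq q₀).map (MulAut.conj ((u⁻¹, 1) : S × S)).toMonoidHom := by
        rw [hKα]
        refine Subgroup.eq_of_le_of_card_ge (fun a ha => ?_) ?_
        · refine ⟨(u * a.1 * u⁻¹, a.2), mem_gA.2 ?_, ?_⟩
          · show (q₀.out : MulAut S) (u * a.1 * u⁻¹) = a.2
            rw [← hαu]
            exact mem_gA.1 ha
          · refine Prod.ext ?_ ?_
            · show u⁻¹ * (u * a.1 * u⁻¹) * u⁻¹⁻¹ = a.1
              group
            · show 1 * a.2 * 1⁻¹ = a.2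
              simp
        · rw [card_map_conj, card_gA, card_gA]
      rw [mark_eq, hsum (fun L => mu L K), Finset.sum_eq_single q₀]
      · rw [hKconj, mu_conj_right]
        exact mu_gA _
      · intro q _ hq
        by_contra hne
        obtain ⟨⟨s, t⟩, hst⟩ := eq_conj_of_mu_ne_zero
          (by rw [card_gA, hKα, card_gA]) hne
        apply hq
        have hrel : ∀ x : S, α (s * x * s⁻¹) = t * (q.out : MulAut S) x * t⁻¹ := by
          intro x
          have hm : ((s, t) : S × S) * (x, (q.out : MulAut S) x) * ((s, t) : S × S)⁻¹ ∈ gA α := by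
            rw [← hKα, hst]
            exact ⟨_, mem_gA.2 rfl, rfl⟩
          exact mem_gA.1 hm
        have hs : (MulAut.conj s : MulAut S) ∈ F.autGroup S := inn_le_autGroup F le_rfl ⟨s, rfl⟩
        have ht : (MulAut.conj t : MulAut S) ∈ F.autGroup S := inn_le_autGroup F le_rfl ⟨t, rfl⟩
        have heq : (⟨α, hα⟩ : F.autGroup S) * ⟨_, hs⟩ = ⟨_, ht⟩ * q.out :=
          Subtype.ext (MulEquiv.ext fun x => hrel x)
        have hs1 : ((⟨_, hs⟩ : F.autGroup S) : F.autGroup S ⧸ I) = 1 :=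
          (QuotientGroup.eq_one_iff _).2 ⟨s, rfl⟩
        have ht1 : ((⟨_, ht⟩ : F.autGroup S) : F.autGroup S ⧸ I) = 1 :=
          (QuotientGroup.eq_one_iff _).2 ⟨t, rfl⟩
        have h := congrArg (fun z : F.autGroup S => (z : F.autGroup S ⧸ I)) heq
        simp only [QuotientGroup.mk_mul, hs1, ht1, mul_one, one_mul, QuotientGroup.out_eq'] at h
        exact h.symm
      · exact fun h => absurd (Finset.mem_univ q₀) h
    intro K K' hK hK' hle hconj
    have hcard : Nat.card K = Nat.card K' := by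
      obtain ⟨f, hf⟩ := isConj_iff.1 hconj
      rw [← hK.card_src, ← hK'.card_src, hf.card_eq]
    rw [hmain K hK hle, hmain K' hK' (hcard ▸ hle)]
  · rw [card_model, hsum (fun L => L.index)]
    have hi : ∀ q, (gq q).index = Nat.card S := fun q => by
      have h := (gq q).card_mul_index
      rw [card_gA, Nat.card_prod] at h
      exact Nat.eq_of_mul_eq_mul_left Nat.card_pos h
    rw [Finset.sum_congr rfl (fun q _ => hi q), Finset.sum_const, Finset.card_univ, smul_eq_mul,
      Nat.mul_dvd_mul_iff_right Nat.card_pos, ← Nat.card_eq_fintype_card]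
    intro hdvd
    have hA := (isFullyAutomized_iff.1 (fullyAutomized_of_fullyNormalized hS hF
      (show F.IsFullyNormalized S from ⟨le_rfl, fun Q hQ => by
        obtain ⟨f, hf⟩ := isConj_iff.1 hQ
        rw [eq_of_le_of_card le_rfl hf.le_right hf.card_eq.ge]⟩))).2
    have hsyl : autInducedBy S S = Cfsg.Inn S := by
      refine le_antisymm (fun a ha => ?_) (inn_le_autInducedBy le_rfl)
      obtain ⟨u, hu, h⟩ := mem_autInducedBy_iff.1 ha
      exact ⟨⟨u, hu⟩, MulEquiv.ext fun x => Subtype.ext (h x).symm⟩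
    have hc := hA.card
    rw [hsyl] at hc
    have hmul := I.card_mul_index
    rw [show Nat.card I = Nat.card (Cfsg.Inn S) from
      Nat.card_congr (Subgroup.subgroupOfEquivOfLe (inn_le_autGroup F le_rfl)).toEquiv, hc] at hmul
    have hnot := Nat.not_dvd_ordCompl (Fact.out : p.Prime)
      (n := Nat.card (F.autGroup S)) Nat.card_pos.ne'
    apply hnot
    rw [show Nat.card (F.autGroup S) / p ^ (Nat.card (F.autGroup S)).factorization p = I.index from
      Nat.div_eq_of_eq_mul_right (pow_pos (Fact.out : p.Prime).pos _) hmul.symm]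
    exact hdvd

/-- Saturated systems have stable models of degree prime to `p`. -/
theorem exists_characteristic [Fact p.Prime] (hS : IsPGroup p S) (hF : F.IsSaturated p) :
    ∃ c : Subgroup (S × S) → ℕ, IsStable F c ∧ ¬ p * Nat.card S ∣ Nat.card (Model c) := by
  suffices h : ∀ j, ∃ c : Subgroup (S × S) → ℕ, Supp F c ∧
      IsStableAbove F c (Nat.card S - j) ∧ ¬ p * Nat.card S ∣ Nat.card (Model c) by
    obtain ⟨c, h1, h2, h3⟩ := h (Nat.card S)
    exact ⟨c, ⟨h1, by rwa [Nat.sub_self] at h2⟩, h3⟩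
  intro j
  induction j with
  | zero => simpa using exists_base hS hF
  | succ j ih =>
    obtain ⟨c, h1, h2, h3⟩ := ih
    by_cases hj : j < Nat.card S
    · refine exists_step hS hF h1 ?_ (by omega) h3
      rwa [show Nat.card S - (j + 1) + 1 = Nat.card S - j by omega]
    · exact ⟨c, h1, by rwa [show Nat.card S - (j + 1) = Nat.card S - j by omega], h3⟩

end Cfsg.Agent.Biset
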