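import Cfsg.Agent.EqLemmas

/-
Finite `G`-sets through their marks.
Main results:
* `exists_equivariant_equiv`: two finite `G`-sets with equal numbers of fixed points for every
  subgroup are isomorphic.
* `card_modEq_of_marks`: if a normal-or-not subgroup `K` fixes both and the marks agree for every
  subgroup not contained in `K`, the cardinalities agree modulo the index of `K`.
-/

set_option autoImplicit false

namespace Cfsg.Agent.Biset

open scoped Classical

variable {G : Type*} [Group G] {X Y : Type*} [MulAction G X] [MulAction G Y]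

/-- The points of `A` fixed by `L`. -/
def fixIn (L : Subgroup G) (A : Set X) : Set X := {x | x ∈ A ∧ ∀ g ∈ L, g • x = x}

/-- `A` is a union of orbits. -/
def IsInvt (G : Type*) [Group G] {X : Type*} [MulAction G X] (A : Set X) : Prop :=
  ∀ (g : G), ∀ x ∈ A, g • x ∈ A

theorem le_stabilizer_of_mem {L : Subgroup G} {A : Set X} {x : X} (hx : x ∈ fixIn L A) :
    L ≤ MulAction.stabilizer G x := fun g hg => hx.2 g hg

theorem mem_fixIn_stabilizer {A : Set X} {x : X} (hx : x ∈ A) :
    x ∈ fixIn (MulAction.stabilizer G x) A := ⟨hx, fun _ hg => hg⟩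

theorem isInvt_univ : IsInvt G (Set.univ : Set X) := fun _ _ _ => Set.mem_univ _

theorem isInvt_orbit (x : X) : IsInvt G (MulAction.orbit G x) := by
  rintro g _ ⟨h, rfl⟩
  exact ⟨g * h, mul_smul g h x⟩

theorem IsInvt.sdiff_orbit {A : Set X} (hA : IsInvt G A) (x : X) :
    IsInvt G (A \ MulAction.orbit G x) := by
  rintro g y ⟨hy, hy'⟩
  refine ⟨hA g y hy, fun h => hy' ?_⟩
  have := isInvt_orbit x g⁻¹ (g • y) h
  rwa [inv_smul_smul] at this

theorem IsInvt.orbit_subset {A : Set X} (hA : IsInvt G A) {x : X} (hx : x ∈ A) :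
    MulAction.orbit G x ⊆ A := by
  rintro _ ⟨g, rfl⟩
  exact hA g x hx

theorem fixIn_sdiff (L : Subgroup G) {A O : Set X} (hO : O ⊆ A) [Finite X] :
    (fixIn L (A \ O)).ncard = (fixIn L A).ncard - (fixIn L O).ncard := by
  have h : fixIn L (A \ O) = fixIn L A \ fixIn L O := by
    ext x
    simp only [fixIn, Set.mem_sdiff, Set.mem_setOf_eq]
    tauto
  rw [h]
  exact Set.ncard_sdiff (s := fixIn L O) (t := fixIn L A) (fun x hx => ⟨hO hx.1, hx.2⟩)

/-- Orbits with equal stabilisers are isomorphic. -/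
theorem exists_orbit_map [Nonempty Y] {x : X} {y : Y}
    (h : MulAction.stabilizer G x = MulAction.stabilizer G y) :
    ∃ e : X → Y, Set.BijOn e (MulAction.orbit G x) (MulAction.orbit G y) ∧
      ∀ g : G, e (g • x) = g • y := by
  let e : X → Y := fun z => if hz : ∃ g : G, g • x = z then hz.choose • y else Classical.arbitrary Y
  have key : ∀ g : G, e (g • x) = g • y := by
    intro g
    have hz : ∃ g' : G, g' • x = g • x := ⟨g, rfl⟩
    simp only [e, dif_pos hz]
    have h1 : g⁻¹ * hz.choose ∈ MulAction.stabilizer G x := by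
      rw [MulAction.mem_stabilizer_iff, mul_smul, hz.choose_spec, inv_smul_smul]
    rw [h, MulAction.mem_stabilizer_iff, mul_smul] at h1
    exact inv_smul_eq_iff.1 h1
  refine ⟨e, ⟨?_, ?_, ?_⟩, key⟩
  · rintro _ ⟨g, rfl⟩
    exact ⟨g, (key g).symm⟩
  · rintro _ ⟨g, rfl⟩ _ ⟨k, rfl⟩ hgk
    simp only [key] at hgk
    have h1 : k⁻¹ * g ∈ MulAction.stabilizer G y := by
      rw [MulAction.mem_stabilizer_iff, mul_smul, hgk, inv_smul_smul]
    rw [← h, MulAction.mem_stabilizer_iff, mul_smul] at h1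
    exact inv_smul_eq_iff.1 h1
  · rintro _ ⟨g, rfl⟩
    exact ⟨g • x, ⟨g, rfl⟩, key g⟩

theorem ncard_fixIn_orbit {x : X} {y : Y} [Finite X]
    (h : MulAction.stabilizer G x = MulAction.stabilizer G y) (L : Subgroup G) :
    (fixIn L (MulAction.orbit G x)).ncard = (fixIn L (MulAction.orbit G y)).ncard := by
  haveI : Nonempty Y := ⟨y⟩
  obtain ⟨e, he, key⟩ := exists_orbit_map h
  rw [← Set.ncard_image_of_injOn (s := fixIn L (MulAction.orbit G x))
    (he.injOn.mono fun _ hz => hz.1)]
  congr 1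
  ext z
  constructor
  · rintro ⟨_, ⟨⟨g, rfl⟩, hg⟩, rfl⟩
    refine ⟨⟨g, (key g).symm⟩, fun l hl => ?_⟩
    have := congrArg e (hg l hl)
    simp only [smul_smul, key] at this ⊢
    exact this
  · rintro ⟨⟨g, rfl⟩, hg⟩
    refine ⟨g • x, ⟨⟨g, rfl⟩, fun l hl => he.injOn ?_ ⟨g, rfl⟩ ?_⟩, key g⟩
    · exact isInvt_orbit x l _ ⟨g, rfl⟩
    · rw [smul_smul, key, key, ← smul_smul]
      exact hg l hl

/-- Two sets with the same marks on an upward closed family have matching orbits. -/
theorem exists_matched_point [Finite G] [Finite X] [Finite Y] {P : Subgroup G → Prop}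
    (hP : ∀ {L L' : Subgroup G}, L ≤ L' → P L → P L') {A : Set X} {B : Set Y}
    (h : ∀ L, P L → (fixIn L A).ncard = (fixIn L B).ncard)
    (hx : ∃ x ∈ A, P (MulAction.stabilizer G x)) :
    ∃ x ∈ A, ∃ y ∈ B, MulAction.stabilizer G x = MulAction.stabilizer G y := by
  obtain ⟨⟨x, hxA, hxP⟩, -, hmax⟩ :=
    Set.exists_max_image (Set.univ : Set {x // x ∈ A ∧ P (MulAction.stabilizer G x)})
      (fun x => Nat.card (MulAction.stabilizer G x.1)) Set.finite_univ
      (let ⟨x, hx1, hx2⟩ := hx; ⟨⟨x, hx1, hx2⟩, trivial⟩)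
  have hne : (fixIn (MulAction.stabilizer G x) B).Nonempty := by
    rw [← Set.ncard_pos, ← h _ hxP, Set.ncard_pos]
    exact ⟨x, mem_fixIn_stabilizer hxA⟩
  obtain ⟨y, hy⟩ := hne
  have hle := le_stabilizer_of_mem hy
  have hne' : (fixIn (MulAction.stabilizer G y) A).Nonempty := by
    rw [← Set.ncard_pos, h _ (hP hle hxP), Set.ncard_pos]
    exact ⟨y, mem_fixIn_stabilizer hy.1⟩
  obtain ⟨x', hx'⟩ := hne'
  have hle' := le_stabilizer_of_mem hx'
  refine ⟨x, hxA, y, hy.1, Subgroup.eq_of_le_of_card_ge hle ?_⟩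
  exact (Subgroup.card_le_of_le hle').trans
    (hmax ⟨x', hx'.1, hP (hle.trans hle') hxP⟩ trivial)

theorem exists_equivariant_bijOn [Finite G] [Finite X] [Finite Y] [Nonempty Y] :
    ∀ (n : ℕ) (A : Set X) (B : Set Y), A.ncard = n → IsInvt G A → IsInvt G B →
      (∀ L : Subgroup G, (fixIn L A).ncard = (fixIn L B).ncard) →
      ∃ e : X → Y, Set.BijOn e A B ∧ ∀ (g : G), ∀ x ∈ A, e (g • x) = g • e x := by
  intro n
  induction n using Nat.strong_induction_on with
  | _ n ih =>
    intro A B hn hA hB h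
    rcases A.eq_empty_or_nonempty with rfl | ⟨x₀, hx₀⟩
    · have hB0 : B = ∅ := by
        rcases B.eq_empty_or_nonempty with hb | ⟨y, hy⟩
        · exact hb
        · have h1 := h ⊥
          have : y ∈ fixIn (⊥ : Subgroup G) B := ⟨hy, fun g hg => by rw [Subgroup.mem_bot.1 hg, one_smul]⟩
          have h2 : 0 < (fixIn (⊥ : Subgroup G) B).ncard := (Set.ncard_pos (Set.toFinite _)).2 ⟨y, this⟩
          rw [← h1, show fixIn (⊥ : Subgroup G) (∅ : Set X) = ∅ from
            Set.eq_empty_of_forall_notMem fun z hz => hz.1] at h2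
          simp at h2
      exact ⟨fun _ => Classical.arbitrary Y, hB0 ▸ Set.bijOn_empty _, fun _ x hx => hx.elim⟩
    obtain ⟨x, hxA, y, hyB, hst⟩ := exists_matched_point (P := fun _ => True)
      (fun _ _ => trivial) (fun L _ => h L) ⟨x₀, hx₀, trivial⟩
    obtain ⟨e₁, he₁, key⟩ := exists_orbit_map hst
    have hOA := hA.orbit_subset hxA
    have hOB := hB.orbit_subset hyB
    have hlt : (A \ MulAction.orbit G x).ncard < n := by
      rw [← hn]
      exact Set.ncard_lt_ncard (ssubset_of_subset_not_subset Set.sdiff_subset fun h' => (h' hxA).2 (MulAction.mem_orbit_self x))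
    obtain ⟨e₂, he₂, key₂⟩ := ih _ hlt (A \ MulAction.orbit G x) (B \ MulAction.orbit G y) rfl
      (hA.sdiff_orbit x) (hB.sdiff_orbit y) fun L => by
        rw [fixIn_sdiff L hOA, fixIn_sdiff L hOB, h L, ncard_fixIn_orbit hst L]
    let e : X → Y := fun z => if z ∈ MulAction.orbit G x then e₁ z else e₂ z
    have he1 : Set.EqOn e e₁ (MulAction.orbit G x) := fun z hz => if_pos hz
    have he2 : Set.EqOn e e₂ (A \ MulAction.orbit G x) := fun z hz => if_neg hz.2
    refine ⟨e, ?_, ?_⟩
    · have hb := (he₁.congr he1.symm).union (he₂.congr he2.symm) ?_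
      · rwa [Set.union_sdiff_cancel hOA, Set.union_sdiff_cancel hOB] at hb
      · rintro a (ha | ha) b (hb | hb) hab
        · exact (he₁.congr he1.symm).injOn ha hb hab
        · exfalso
          exact (he₂.mapsTo hb).2 (he2 hb ▸ hab ▸ he1 ha ▸ he₁.mapsTo ha)
        · exfalso
          exact (he₂.mapsTo ha).2 (he2 ha ▸ hab.symm ▸ he1 hb ▸ he₁.mapsTo hb)
        · exact (he₂.congr he2.symm).injOn ha hb hab
    · intro g z hz
      by_cases hzO : z ∈ MulAction.orbit G x
      · rw [he1 hzO, he1 (isInvt_orbit x g z hzO)]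
        obtain ⟨k, rfl⟩ := hzO
        simp only [key, smul_smul]
      · rw [he2 ⟨hz, hzO⟩, he2 ((hA.sdiff_orbit x) g z ⟨hz, hzO⟩)]
        exact key₂ g z ⟨hz, hzO⟩

/-- Finite `G`-sets with the same marks are isomorphic. -/
theorem exists_equivariant_equiv [Finite G] [Finite X] [Finite Y]
    (h : ∀ L : Subgroup G,
      (fixIn L (Set.univ : Set X)).ncard = (fixIn L (Set.univ : Set Y)).ncard) :
    ∃ e : X ≃ Y, ∀ (g : G) (x : X), e (g • x) = g • e x := by
  rcases isEmpty_or_nonempty Y with hY | hY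
  · haveI : IsEmpty X := ⟨fun x => by
      have h2 : 0 < (fixIn (⊥ : Subgroup G) (Set.univ : Set X)).ncard :=
        (Set.ncard_pos (Set.toFinite _)).2 ⟨x, trivial, fun g hg => by rw [Subgroup.mem_bot.1 hg, one_smul]⟩
      rw [h ⊥, show fixIn (⊥ : Subgroup G) (Set.univ : Set Y) = ∅ from
        Set.eq_empty_of_forall_notMem fun z _ => hY.false z] at h2
      simp at h2⟩
    exact ⟨Equiv.equivOfIsEmpty X Y, fun _ x => isEmptyElim x⟩
  obtain ⟨e, he, key⟩ := exists_equivariant_bijOn _ (Set.univ : Set X) (Set.univ : Set Y) rfl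
    isInvt_univ isInvt_univ h
  have hb : Function.Bijective e := Set.bijOn_univ.1 he
  exact ⟨Equiv.ofBijective e hb, fun g x => key g x trivial⟩

theorem index_dvd_ncard [Finite G] [Finite X] {K : Subgroup G} :
    ∀ (n : ℕ) (A : Set X), A.ncard = n → IsInvt G A →
      (∀ x ∈ A, MulAction.stabilizer G x = K) → K.index ∣ A.ncard := by
  intro n
  induction n using Nat.strong_induction_on with
  | _ n ih =>
    intro A hn hA h
    rcases A.eq_empty_or_nonempty with rfl | ⟨x, hx⟩
    · simp
    have hO := hA.orbit_subset hx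
    have hlt : (A \ MulAction.orbit G x).ncard < n := by
      rw [← hn]
      exact Set.ncard_lt_ncard (ssubset_of_subset_not_subset Set.sdiff_subset fun h' => (h' hx).2 (MulAction.mem_orbit_self x))
    rw [← Set.ncard_sdiff_add_ncard_of_subset hO]
    refine Nat.dvd_add (ih _ hlt _ rfl (hA.sdiff_orbit x) fun y hy => h y hy.1) ?_
    rw [← MulAction.index_stabilizer G x, h x hx]

theorem card_modEq_of_marks_aux [Finite G] [Finite X] [Finite Y] {K : Subgroup G} :
    ∀ (n : ℕ) (A : Set X) (B : Set Y), A.ncard = n → IsInvt G A → IsInvt G B →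
      (∀ x ∈ A, K ≤ MulAction.stabilizer G x) → (∀ y ∈ B, K ≤ MulAction.stabilizer G y) →
      (∀ L : Subgroup G, ¬ L ≤ K → (fixIn L A).ncard = (fixIn L B).ncard) →
      A.ncard ≡ B.ncard [MOD K.index] := by
  intro n
  induction n using Nat.strong_induction_on with
  | _ n ih =>
    intro A B hn hA hB hKA hKB h
    by_cases hx : ∃ x ∈ A, ¬ MulAction.stabilizer G x ≤ K
    · obtain ⟨x, hxA, y, hyB, hst⟩ := exists_matched_point (P := fun L => ¬ L ≤ K)
        (fun hle hL hL' => hL (hle.trans hL')) h hx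
      have hOA := hA.orbit_subset hxA
      have hOB := hB.orbit_subset hyB
      have hlt : (A \ MulAction.orbit G x).ncard < n := by
        rw [← hn]
        exact Set.ncard_lt_ncard (ssubset_of_subset_not_subset Set.sdiff_subset fun h' => (h' hxA).2 (MulAction.mem_orbit_self x))
      have := ih _ hlt (A \ MulAction.orbit G x) (B \ MulAction.orbit G y) rfl (hA.sdiff_orbit x)
        (hB.sdiff_orbit y) (fun z hz => hKA z hz.1) (fun z hz => hKB z hz.1) fun L hL => by
          rw [fixIn_sdiff L hOA, fixIn_sdiff L hOB, h L hL, ncard_fixIn_orbit hst L]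
      rw [← Set.ncard_sdiff_add_ncard_of_subset hOA, ← Set.ncard_sdiff_add_ncard_of_subset hOB,
        ← MulAction.index_stabilizer G x, ← MulAction.index_stabilizer G y, hst]
      exact this.add_right _
    · push Not at hx
      have hA' : ∀ x ∈ A, MulAction.stabilizer G x = K := fun x h' => le_antisymm (hx x h') (hKA x h')
      have hB' : ∀ y ∈ B, MulAction.stabilizer G y = K := by
        intro y hy
        refine le_antisymm ?_ (hKB y hy)
        by_contra hle
        have h2 : 0 < (fixIn (MulAction.stabilizer G y) B).ncard :=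
          (Set.ncard_pos (Set.toFinite _)).2 ⟨y, mem_fixIn_stabilizer hy⟩
        rw [← h _ hle, Set.ncard_pos] at h2
        obtain ⟨x, hxm⟩ := h2
        exact hle ((le_stabilizer_of_mem hxm).trans (hA' x hxm.1).le)
      exact (Nat.modEq_zero_iff_dvd.2 (index_dvd_ncard _ A rfl hA hA')).trans
        (Nat.modEq_zero_iff_dvd.2 (index_dvd_ncard _ B rfl hB hB')).symm

/-- Congruence of cardinalities from equality of marks away from `K`. -/
theorem card_modEq_of_marks [Finite G] [Finite X] [Finite Y] {K : Subgroup G} {A : Set X}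
    {B : Set Y} (hA : IsInvt G A) (hB : IsInvt G B)
    (hKA : ∀ x ∈ A, K ≤ MulAction.stabilizer G x) (hKB : ∀ y ∈ B, K ≤ MulAction.stabilizer G y)
    (h : ∀ L : Subgroup G, ¬ L ≤ K → (fixIn L A).ncard = (fixIn L B).ncard) :
    A.ncard ≡ B.ncard [MOD K.index] :=
  card_modEq_of_marks_aux _ A B rfl hA hB hKA hKB h

end Cfsg.Agent.Biset
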