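import Cfsg.Agent.Lib.Biset.Twisted

/-
A stable model for an arbitrary (not necessarily saturated) fusion system over a finite group.
Main result: `exists_isStable`: some stable model contains the twisted diagonal of the identity
and even has marks depending only on the order.
-/

set_option autoImplicit false

namespace Cfsg.Agent.Biset

open Cfsg Cfsg.FusionSystem Cfsg.Agent.Fusion
open scoped Classical Pointwise

variable {Ω : Type*} [Group Ω] {S : Subgroup Ω} [Finite S] {F : FusionSystem S}

theorem card_le_of_good {K : Subgroup (S × S)} (h : Good F K) : Nat.card K ≤ Nat.card S := by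
  rw [← h.card_src]
  exact Subgroup.card_le_of_le (src_le K)

/-- The sum over a class-invariant weight of the marks at a group of the same order. -/
theorem sum_mu_eq {G : Type*} [Group G] [Finite G] [Fintype (Subgroup G)] (d : Subgroup G → ℕ)
    (hd : ∀ (L : Subgroup G) (g : G), d (L.map (MulAut.conj g).toMonoidHom) = d L)
    (K : Subgroup G) (hcard : ∀ L, d L ≠ 0 → Nat.card L = Nat.card K) :
    ∑ L, d L * mu L K = d K * K.index := by
  have hterm : ∀ L : Subgroup G, d L * mu L K =
      d K * (if Nat.card L = Nat.card K then mu L K else 0) := by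
    intro L
    split_ifs with hc
    · rcases eq_or_ne (mu L K) 0 with hm | hm
      · simp [hm]
      · obtain ⟨g, rfl⟩ := eq_conj_of_mu_ne_zero hc hm
        rw [hd]
    · rw [show d L = 0 from by by_contra h; exact hc (hcard L h), zero_mul, mul_zero]
  rw [Finset.sum_congr rfl fun L _ => hterm L, ← Finset.mul_sum]
  congr 1
  have e : ∑ L : Subgroup G, (if Nat.card L = Nat.card K then mu L K else 0) =
      Nat.card (Σ L : Subgroup G,
        {x : G ⧸ L // Nat.card L = Nat.card K ∧ ∀ k ∈ K, k • x = x}) := by
    rw [Nat.card_sigma]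
    refine Finset.sum_congr rfl fun L _ => ?_
    split_ifs with hc
    · exact (Nat.card_congr (Equiv.subtypeEquivRight fun x => ⟨fun h => h.2, fun h => ⟨hc, h⟩⟩)).symm
    · haveI : IsEmpty {x : G ⧸ L // Nat.card L = Nat.card K ∧ ∀ k ∈ K, k • x = x} :=
        ⟨fun x => hc x.2.1⟩
      exact (Nat.card_of_isEmpty).symm
  rw [e]
  show _ = Nat.card (G ⧸ K)
  symm
  let ψ : G → Σ L : Subgroup G, {x : G ⧸ L // Nat.card L = Nat.card K ∧ ∀ k ∈ K, k • x = x} :=
    fun g => ⟨K.map (MulAut.conj g).toMonoidHom, ((g⁻¹ : G) : G ⧸ _), card_map_conj K g,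
      fixed_mk_iff.2 fun k hk =>
        Subgroup.mem_map.2 ⟨g * k * g⁻¹, Subgroup.mem_map.2 ⟨k, hk, rfl⟩, by simp [mul_assoc]⟩⟩
  have hinj : ∀ a b : G, ψ a = ψ b ↔ a⁻¹ * b ∈ K := by
    intro a b
    have key : ∀ (L L' : Subgroup G) (ha : _) (hb : _), L = L' →
        ((⟨L, ((a⁻¹ : G) : G ⧸ L), ha⟩ : Σ L : Subgroup G,
            {x : G ⧸ L // Nat.card L = Nat.card K ∧ ∀ k ∈ K, k • x = x}) =
          ⟨L', ((b⁻¹ : G) : G ⧸ L'), hb⟩ ↔ a * b⁻¹ ∈ L) := by
      rintro L L' ha hb rfl
      rw [sigma_mk_injective.eq_iff, Subtype.ext_iff, QuotientGroup.eq, inv_inv]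
    constructor
    · intro h
      have hL : K.map (MulAut.conj a).toMonoidHom = K.map (MulAut.conj b).toMonoidHom :=
        congrArg Sigma.fst h
      obtain ⟨k, hk, hk'⟩ := (key _ _ _ _ hL).1 h
      have hk'' : a * k * a⁻¹ = a * b⁻¹ := hk'
      have : b⁻¹ = k * a⁻¹ := mul_left_cancel (a := a) (by rw [← mul_assoc, hk''])
      rw [← inv_inv b, this]
      simpa [mul_assoc] using inv_mem hk
    · intro h
      obtain ⟨k, hk, rfl⟩ : ∃ k ∈ K, b = a * k := ⟨a⁻¹ * b, h, by group⟩
      have hL : K.map (MulAut.conj a).toMonoidHom = K.map (MulAut.conj (a * k)).toMonoidHom := by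
        ext x
        rw [mem_map_conj, mem_map_conj]
        constructor
        · rintro ⟨y, hy, rfl⟩
          exact ⟨k⁻¹ * y * k, mul_mem (mul_mem (inv_mem hk) hy) hk, by group⟩
        · rintro ⟨y, hy, rfl⟩
          exact ⟨k * y * k⁻¹, mul_mem (mul_mem hk hy) (inv_mem hk), by group⟩
      refine (key _ _ _ _ hL).2 ⟨k⁻¹, inv_mem hk, ?_⟩
      show a * k⁻¹ * a⁻¹ = a * (a * k)⁻¹
      group
  refine Nat.card_congr (Equiv.ofBijective (fun q => Quotient.liftOn' q ψ fun a b h =>
    (hinj a b).2 (QuotientGroup.leftRel_apply.1 h)) ⟨?_, ?_⟩)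
  · intro p q h
    obtain ⟨a, rfl⟩ := QuotientGroup.mk_surjective p
    obtain ⟨b, rfl⟩ := QuotientGroup.mk_surjective q
    exact QuotientGroup.eq.2 ((hinj a b).1 h)
  · rintro ⟨L, x, hc, hx⟩
    obtain ⟨g, rfl⟩ := QuotientGroup.mk_surjective x
    have hK : K = L.map (MulAut.conj g).toMonoidHom :=
      Subgroup.eq_of_le_of_card_ge (fixed_mk_iff.1 hx) (by rw [card_map_conj, hc])
    refine ⟨((g⁻¹ : G) : G ⧸ K), ?_⟩
    show ψ g⁻¹ = _
    have hL : K.map (MulAut.conj g⁻¹).toMonoidHom = L := by
      subst hK
      rw [Subgroup.map_map]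
      refine Eq.trans ?_ (Subgroup.map_id L)
      congr 1
      ext y
      simp [mul_assoc]
    subst hL
    refine Sigma.ext rfl (heq_of_eq (Subtype.ext ?_))
    simp [ψ]

/-- A model whose marks at twisted diagonals depend only on their order. -/
theorem exists_markConst (F : FusionSystem S) (j : ℕ) :
    ∃ c : Subgroup (S × S) → ℕ, Supp F c ∧
      c (graph (IsMap.id (F := F) (le_refl S))) ≠ 0 ∧
      ∀ K K' : Subgroup (S × S), Good F K → Good F K' → Nat.card K = Nat.card K' →
        Nat.card S ≤ Nat.card K + j → mark c K = mark c K' := by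
  haveI := Fintype.ofFinite (Subgroup (S × S))
  have hidx : ∀ K K' : Subgroup (S × S), Nat.card K = Nat.card K' → K.index = K'.index := by
    intro K K' h
    have h1 := K.card_mul_index
    have h2 := K'.card_mul_index
    rw [h] at h1
    exact Nat.eq_of_mul_eq_mul_left Nat.card_pos (h1.trans h2.symm)
  induction j with
  | zero =>
    refine ⟨fun L => if Good F L ∧ Nat.card L = Nat.card S then 1 else 0, ?_, ?_, ?_⟩
    · intro L hL
      by_contra h
      exact hL (if_neg fun h' => h h'.1)
    · show (if _ then 1 else 0) ≠ 0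
      rw [if_pos ⟨good_graph _, by rw [← (good_graph _).card_src, src_graph]⟩]
      exact one_ne_zero
    · intro K K' hK hK' hcard hle
      have hKS : ∀ K : Subgroup (S × S), Good F K → Nat.card S ≤ Nat.card K + 0 →
          mark (fun L => if Good F L ∧ Nat.card L = Nat.card S then 1 else 0) K = K.index := by
        intro K hK hle
        have hc : Nat.card K = Nat.card S := le_antisymm (card_le_of_good hK) (by omega)
        rw [mark_eq, sum_mu_eq _ ?_ K ?_, if_pos ⟨hK, hc⟩, one_mul]
        · intro L g
          refine if_congr ⟨?_, ?_⟩ rfl rfl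
          · rintro ⟨hg, hc'⟩
            refine ⟨?_, by rwa [card_map_conj] at hc'⟩
            have := (hg.conj g⁻¹).1
            rw [Subgroup.map_map] at this
            convert this
            refine (Subgroup.map_id L).symm.trans ?_
            congr 1
            ext y <;> simp [mul_assoc]
          · rintro ⟨hg, hc'⟩
            exact ⟨(hg.conj g).1, by rw [card_map_conj, hc']⟩
        · intro L hL
          by_contra h
          exact hL (if_neg fun h' => h (h'.2.trans hc.symm))
      rw [hKS K hK hle, hKS K' hK' (hcard ▸ hle), hidx K K' hcard]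
  | succ j ih =>
    obtain ⟨c, hsupp, hdiag, hconst⟩ := ih
    by_cases hex : ∃ K₀ : Subgroup (S × S), Good F K₀ ∧ Nat.card K₀ + (j + 1) = Nat.card S
    swap
    · refine ⟨c, hsupp, hdiag, fun K K' hK hK' hcard hle => hconst K K' hK hK' hcard ?_⟩
      by_contra h
      exact hex ⟨K, hK, by omega⟩
    obtain ⟨K₀, hK₀, hn⟩ := hex
    set n := Nat.card K₀
    let top : ℕ := Finset.univ.sup fun L : Subgroup (S × S) => mark c L
    let d : Subgroup (S × S) → ℕ := fun L =>
      if Good F L ∧ Nat.card L = n then top - mark c L else 0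
    have hd : ∀ (L : Subgroup (S × S)) (g : S × S),
        d (L.map (MulAut.conj g).toMonoidHom) = d L := by
      intro L g
      simp only [d, mark_conj]
      refine if_congr ⟨?_, ?_⟩ rfl rfl
      · rintro ⟨hg, hc'⟩
        refine ⟨?_, by rwa [card_map_conj] at hc'⟩
        have := (hg.conj g⁻¹).1
        rw [Subgroup.map_map] at this
        convert this
        refine (Subgroup.map_id L).symm.trans ?_
        congr 1
        ext y <;> simp [mul_assoc]
      · rintro ⟨hg, hc'⟩
        exact ⟨(hg.conj g).1, by rw [card_map_conj, hc']⟩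
    have hdcard : ∀ L, d L ≠ 0 → Good F L ∧ Nat.card L = n := fun L hL => by
      by_contra h
      exact hL (if_neg h)
    refine ⟨fun L => K₀.index * c L + d L, fun L hL => ?_, ?_, ?_⟩
    · rcases Nat.eq_zero_or_pos (c L) with h | h
      · exact (hdcard L (by simpa [h] using hL)).1
      · exact hsupp L h.ne'
    · have := Subgroup.index_ne_zero_of_finite (H := K₀)
      simp [hdiag, this]
    · intro K K' hK hK' hcard hle
      rw [mark_add_smul, mark_add_smul]
      by_cases hbig : n < Nat.card K
      · have hz : ∀ K : Subgroup (S × S), n < Nat.card K → mark d K = 0 := by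
          intro K hlt
          rw [mark_eq]
          refine Finset.sum_eq_zero fun L _ => ?_
          by_cases hL : d L = 0
          · simp [hL]
          · rw [mu_eq_zero_of_card_lt (by rw [(hdcard L hL).2]; exact hlt), mul_zero]
        rw [hz K hbig, hz K' (hcard ▸ hbig), hconst K K' hK hK' hcard (by omega)]
      · have hKn : ∀ K : Subgroup (S × S), Good F K → Nat.card K = n →
            K₀.index * mark c K + mark d K = K₀.index * top := by
          intro K hK hc
          have hle' : mark c K ≤ top :=
            Finset.le_sup (f := fun L : Subgroup (S × S) => mark c L) (Finset.mem_univ K)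
          rw [mark_eq d, sum_mu_eq d hd K fun L hL => (hdcard L hL).2.trans hc.symm,
            hidx K K₀ hc, show d K = top - mark c K from if_pos ⟨hK, hc⟩, mul_comm (top - _),
            ← mul_add, Nat.add_sub_cancel' hle']
        rw [hKn K hK (by omega), hKn K' hK' (by omega)]

/-- Every fusion system over a finite group has a stable model containing the identity diagonal. -/
theorem exists_isStable (F : FusionSystem S) :
    ∃ c : Subgroup (S × S) → ℕ, IsStable F c ∧
      c (graph (IsMap.id (F := F) (le_refl S))) ≠ 0 := by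
  obtain ⟨c, hsupp, hdiag, hconst⟩ := exists_markConst F (Nat.card S)
  refine ⟨c, ⟨hsupp, fun K K' hK hK' _ hconj => hconst K K' hK hK' ?_ (by omega)⟩, hdiag⟩
  rw [← hK.card_src, ← hK'.card_src]
  obtain ⟨f, hf⟩ := isConj_iff.1 hconj
  exact hf.card_eq.symm

end Cfsg.Agent.Biset
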