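import Cfsg.Agent.Lib.Fusion.Saturation
import Cfsg.Agent.Lib.Biset.Marks

/-
Twisted diagonal subgroups of `S × S` and sums of coset spaces.
Main definitions: `src`, `Good` (twisted diagonal of a map of the system), `graph`, `Model c`
(sum of `c L` copies of `(S × S) ⧸ L`), `mu` (marks of coset spaces), `mark c K`, `IsStable`.
Main results: `good_transport` (transport of twisted diagonals), `mark_add`, `exists_equiv_of_isMap`
(a stable model is invariant under the maps of the system).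
-/

set_option autoImplicit false

namespace Cfsg.Agent.Biset

open Cfsg Cfsg.FusionSystem Cfsg.Agent.Fusion
open scoped Classical Pointwise

variable {Ω : Type*} [Group Ω] {S : Subgroup Ω}

/-- The projection of a subgroup of `S × S` to the first factor, inside the ambient group. -/
def src (K : Subgroup (S × S)) : Subgroup Ω := K.map (S.subtype.comp (MonoidHom.fst S S))

theorem mem_src {K : Subgroup (S × S)} {x : Ω} : x ∈ src K ↔ ∃ a ∈ K, (a.1 : Ω) = x := Iff.rfl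

theorem src_le (K : Subgroup (S × S)) : src K ≤ S := by
  rintro _ ⟨a, -, rfl⟩
  exact a.1.2

theorem src_mono {K L : Subgroup (S × S)} (h : K ≤ L) : src K ≤ src L := Subgroup.map_mono h

theorem fst_mem_src {K : Subgroup (S × S)} {a : S × S} (ha : a ∈ K) : (a.1 : Ω) ∈ src K :=
  ⟨a, ha, rfl⟩

/-- `K` is the twisted diagonal subgroup of a map of the system. -/
def Good (F : FusionSystem S) (K : Subgroup (S × S)) : Prop :=
  ∃ f, IsMap F (src K) f ∧ ∀ a ∈ K, f (a.1 : Ω) = a.2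

variable {F : FusionSystem S}

theorem Good.mono {K L : Subgroup (S × S)} (h : Good F L) (hKL : K ≤ L) : Good F K :=
  let ⟨f, hf, he⟩ := h
  ⟨f, hf.mono (src_mono hKL), fun a ha => he a (hKL ha)⟩

theorem Good.eq_of_fst_eq {K : Subgroup (S × S)} (h : Good F K) {a b : S × S} (ha : a ∈ K)
    (hb : b ∈ K) (e : a.1 = b.1) : a = b := by
  obtain ⟨f, -, he⟩ := h
  refine Prod.ext e (Subtype.ext ?_)
  rw [← he a ha, ← he b hb, e]

theorem Good.card_src {K : Subgroup (S × S)} (h : Good F K) :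
    Nat.card (src K) = Nat.card K := by
  refine (Nat.card_congr (Equiv.ofBijective
    (fun a : K => (⟨(a.1.1 : Ω), fst_mem_src a.2⟩ : src K)) ⟨fun a b e => ?_, ?_⟩)).symm
  · exact Subtype.ext (h.eq_of_fst_eq a.2 b.2 (Subtype.ext (congrArg (fun z : src K => (z : Ω)) e)))
  · rintro ⟨_, a, ha, rfl⟩
    exact ⟨⟨a, ha⟩, rfl⟩

/-- The twisted diagonal of a map of the system. -/
def graph {P : Subgroup Ω} {f : Ω → Ω} (h : IsMap F P f) : Subgroup (S × S) where
  carrier := {a | (a.1 : Ω) ∈ P ∧ f a.1 = a.2}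
  one_mem' := ⟨P.one_mem, by simp [h.map_one]⟩
  mul_mem' := fun {a b} ha hb => ⟨P.mul_mem ha.1 hb.1, by
    show f ((a.1 : Ω) * b.1) = (a.2 : Ω) * b.2
    rw [h.map_mul ha.1 hb.1, ha.2, hb.2]⟩
  inv_mem' := fun {a} ha => ⟨P.inv_mem ha.1, by
    show f ((a.1 : Ω)⁻¹) = (a.2 : Ω)⁻¹
    rw [h.map_inv ha.1, ha.2]⟩

theorem mem_graph {P : Subgroup Ω} {f : Ω → Ω} (h : IsMap F P f) {a : S × S} :
    a ∈ graph h ↔ (a.1 : Ω) ∈ P ∧ f a.1 = a.2 := Iff.rfl

theorem src_graph {P : Subgroup Ω} {f : Ω → Ω} (h : IsMap F P f) : src (graph h) = P := by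
  refine le_antisymm ?_ fun x hx => ?_
  · rintro _ ⟨a, ha, rfl⟩
    exact ha.1
  · exact ⟨(⟨x, h.le hx⟩, ⟨f x, h.mem hx⟩), ⟨hx, rfl⟩, rfl⟩

theorem good_graph {P : Subgroup Ω} {f : Ω → Ω} (h : IsMap F P f) : Good F (graph h) :=
  ⟨f, (src_graph h).symm ▸ h, fun _ ha => ha.2⟩

theorem eq_graph {K : Subgroup (S × S)} {f : Ω → Ω} (h : IsMap F (src K) f)
    (he : ∀ a ∈ K, f (a.1 : Ω) = a.2) : K = graph h := by
  refine le_antisymm (fun a ha => ⟨fst_mem_src ha, he a ha⟩) fun a ha => ?_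
  obtain ⟨b, hb, hba⟩ := mem_src.1 ha.1
  have : b = a := Prod.ext (Subtype.ext hba) (Subtype.ext (by rw [← he b hb, hba, ha.2]))
  rwa [← this]

/-- Twisted diagonals transported by a pair of maps of the system. -/
theorem good_transport {K K' : Subgroup (S × S)} {M M' : Subgroup Ω} {f g : Ω → Ω}
    (hf : IsMap F M f) (hg : IsMap F M' g) (hK : ∀ a ∈ K, (a.1 : Ω) ∈ M ∧ (a.2 : Ω) ∈ M')
    (h1 : ∀ a ∈ K, ∃ b ∈ K', (b.1 : Ω) = f a.1 ∧ (b.2 : Ω) = g a.2)
    (h2 : ∀ b ∈ K', ∃ a ∈ K, (b.1 : Ω) = f a.1 ∧ (b.2 : Ω) = g a.2) (hgood : Good F K) :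
    Good F K' ∧ F.IsConj (src K) (src K') := by
  obtain ⟨φ, hφ, he⟩ := hgood
  have hle : src K ≤ M := by rintro _ ⟨a, ha, rfl⟩; exact (hK a ha).1
  have himg : img f (src K) = src K' := by
    refine IsIso.img_eq_of hf hle ?_ ?_
    · rintro _ ⟨a, ha, rfl⟩
      obtain ⟨b, hb, e, -⟩ := h1 a ha
      exact ⟨b, hb, e⟩
    · rintro _ ⟨b, hb, rfl⟩
      obtain ⟨a, ha, e, -⟩ := h2 b hb
      exact ⟨(a.1 : Ω), fst_mem_src ha, e.symm⟩
  have hiso : IsIso F (src K) (src K') f := ⟨hf.mono hle, himg⟩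
  obtain ⟨fi, hfi, hfi1, -⟩ := hiso.symm
  have hmem : ∀ x ∈ src K, φ x ∈ M' := by
    rintro _ ⟨a, ha, rfl⟩
    show φ (a.1 : Ω) ∈ M'
    rw [he a ha]
    exact (hK a ha).2
  refine ⟨⟨fun x => g (φ (fi x)), hfi.1.comp (hφ.comp hg hmem) fun x hx => hfi.mem hx, ?_⟩,
    isConj_iff.2 ⟨f, hiso⟩⟩
  intro b hb
  obtain ⟨a, ha, e1, e2⟩ := h2 b hb
  show g (φ (fi (b.1 : Ω))) = b.2
  rw [e1, hfi1 _ (fst_mem_src ha), he a ha, e2]

/-- Transport in both directions. -/
theorem good_transport_iff {K K' : Subgroup (S × S)} {M M' : Subgroup Ω} {f g : Ω → Ω}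
    (hf : IsMap F M f) (hg : IsMap F M' g) (hK : ∀ a ∈ K, (a.1 : Ω) ∈ M ∧ (a.2 : Ω) ∈ M')
    (h1 : ∀ a ∈ K, ∃ b ∈ K', (b.1 : Ω) = f a.1 ∧ (b.2 : Ω) = g a.2)
    (h2 : ∀ b ∈ K', ∃ a ∈ K, (b.1 : Ω) = f a.1 ∧ (b.2 : Ω) = g a.2) :
    (Good F K ↔ Good F K') ∧ (Good F K → F.IsConj (src K) (src K')) := by
  refine ⟨⟨fun h => (good_transport hf hg hK h1 h2 h).1, fun h => ?_⟩,
    fun h => (good_transport hf hg hK h1 h2 h).2⟩
  obtain ⟨fi, hfi, hfi1, -⟩ := hf.isIso.symm
  obtain ⟨gi, hgi, hgi1, -⟩ := hg.isIso.symm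
  refine (good_transport hfi.1 hgi.1 ?_ ?_ ?_ h).1
  · intro b hb
    obtain ⟨a, ha, e1, e2⟩ := h2 b hb
    rw [e1, e2]
    exact ⟨hf.isIso.mem (hK a ha).1, hg.isIso.mem (hK a ha).2⟩
  · intro b hb
    obtain ⟨a, ha, e1, e2⟩ := h2 b hb
    exact ⟨a, ha, by rw [e1, hfi1 _ (hK a ha).1], by rw [e2, hgi1 _ (hK a ha).2]⟩
  · intro a ha
    obtain ⟨b, hb, e1, e2⟩ := h1 a ha
    exact ⟨b, hb, by rw [e1, hfi1 _ (hK a ha).1], by rw [e2, hgi1 _ (hK a ha).2]⟩

theorem mem_map_conj {G : Type*} [Group G] {K : Subgroup G} {g x : G} :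
    x ∈ K.map (MulAut.conj g).toMonoidHom ↔ ∃ y ∈ K, g * y * g⁻¹ = x := Iff.rfl

theorem card_map_conj {G : Type*} [Group G] (K : Subgroup G) (g : G) :
    Nat.card (K.map (MulAut.conj g).toMonoidHom) = Nat.card K :=
  (Nat.card_congr (K.equivMapOfInjective _ (MulAut.conj g).injective).toEquiv).symm

theorem Good.conj {K : Subgroup (S × S)} (h : Good F K) (s : S × S) :
    Good F (K.map (MulAut.conj s).toMonoidHom) ∧
      F.IsConj (src K) (src (K.map (MulAut.conj s).toMonoidHom)) := by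
  refine good_transport (IsMap.conj (F := F) le_rfl s.1.2) (IsMap.conj (F := F) le_rfl s.2.2)
    (fun a _ => ⟨a.1.2, a.2.2⟩) (fun a ha => ⟨_, ⟨a, ha, rfl⟩, rfl, rfl⟩) ?_ h
  rintro _ ⟨a, ha, rfl⟩
  exact ⟨a, ha, rfl, rfl⟩

/-! ### Sums of coset spaces and their marks -/

/-- The number of points of `G ⧸ L` fixed by `K`. -/
noncomputable def mu {G : Type*} [Group G] (L K : Subgroup G) : ℕ :=
  Nat.card {x : G ⧸ L // ∀ k ∈ K, k • x = x}

theorem fixed_mk_iff {G : Type*} [Group G] {L K : Subgroup G} {g : G} :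
    (∀ k ∈ K, k • (g : G ⧸ L) = g) ↔ K ≤ L.map (MulAut.conj g).toMonoidHom := by
  constructor
  · intro h k hk
    have h1 := QuotientGroup.eq.1 ((MulAction.Quotient.smul_mk L k g).symm.trans (h k hk))
    refine ⟨g⁻¹ * k * g, ?_, by simp [mul_assoc]⟩
    simpa [mul_assoc] using L.inv_mem h1
  · intro h k hk
    obtain ⟨l, hl, rfl⟩ := h hk
    show ((g * l * g⁻¹) • (g : G ⧸ L)) = g
    refine (MulAction.Quotient.smul_mk L _ g).trans (QuotientGroup.eq.2 ?_)
    have e : ((g * l * g⁻¹) • g)⁻¹ * g = l⁻¹ := by simp [mul_assoc]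
    rw [e]
    exact L.inv_mem hl

theorem exists_conj_of_mu_ne_zero {G : Type*} [Group G] {L K : Subgroup G} (h : mu L K ≠ 0) :
    ∃ g : G, K ≤ L.map (MulAut.conj g).toMonoidHom := by
  obtain ⟨⟨x, hx⟩⟩ := (Nat.card_ne_zero.1 h).1
  obtain ⟨g, rfl⟩ := QuotientGroup.mk_surjective x
  exact ⟨g, fixed_mk_iff.1 hx⟩

theorem mu_eq_zero_of_card_lt {G : Type*} [Group G] [Finite G] {L K : Subgroup G}
    (h : Nat.card L < Nat.card K) : mu L K = 0 := by
  by_contra hne
  obtain ⟨g, hg⟩ := exists_conj_of_mu_ne_zero hne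
  have := Subgroup.card_le_of_le hg
  rw [card_map_conj] at this
  omega

theorem eq_conj_of_mu_ne_zero {G : Type*} [Group G] [Finite G] {L K : Subgroup G}
    (hc : Nat.card L = Nat.card K) (h : mu L K ≠ 0) :
    ∃ g : G, K = L.map (MulAut.conj g).toMonoidHom := by
  obtain ⟨g, hg⟩ := exists_conj_of_mu_ne_zero h
  exact ⟨g, Subgroup.eq_of_le_of_card_ge hg (by rw [card_map_conj, hc])⟩

theorem mu_self_ne_zero {G : Type*} [Group G] [Finite G] (L : Subgroup G) : mu L L ≠ 0 := by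
  have hfix : ∀ k ∈ L, k • ((1 : G) : G ⧸ L) = ((1 : G) : G ⧸ L) :=
    fixed_mk_iff.2 fun k hk => ⟨k, hk, by simp⟩
  exact Nat.card_ne_zero.2 ⟨⟨⟨_, hfix⟩⟩, inferInstance⟩

theorem mu_conj_right {G : Type*} [Group G] (L K : Subgroup G) (g : G) :
    mu L (K.map (MulAut.conj g).toMonoidHom) = mu L K := by
  symm
  refine Nat.card_congr (Equiv.subtypeEquiv (MulAction.toPerm g) fun x => ?_)
  constructor
  · rintro h _ ⟨k, hk, rfl⟩
    show (g * k * g⁻¹) • g • x = g • x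
    rw [mul_smul, mul_smul, inv_smul_smul, h k hk]
  · intro h k hk
    have h1 : (g * k * g⁻¹) • g • x = g • x := h _ ⟨k, hk, rfl⟩
    rwa [mul_smul, mul_smul, inv_smul_smul, smul_left_cancel_iff] at h1

theorem mu_map_equiv {G : Type*} [Group G] (e : G ≃* G) (L K : Subgroup G) :
    mu (L.map e.toMonoidHom) (K.map e.toMonoidHom) = mu L K := by
  symm
  refine Nat.card_congr (Equiv.subtypeEquiv
    (Quotient.congr e.toEquiv fun a b => ?_) fun x => ?_)
  · rw [QuotientGroup.leftRel_apply, QuotientGroup.leftRel_apply]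
    show _ ↔ (e a)⁻¹ * e b ∈ L.map e.toMonoidHom
    rw [← map_inv, ← map_mul]
    exact (Subgroup.mem_map_iff_mem e.injective).symm
  · obtain ⟨g, rfl⟩ := QuotientGroup.mk_surjective x
    show (∀ k ∈ K, k • (g : G ⧸ L) = g) ↔
      (∀ k ∈ K.map e.toMonoidHom, k • ((e g : G) : G ⧸ L.map e.toMonoidHom) = e g)
    rw [fixed_mk_iff, fixed_mk_iff]
    have hc : (L.map e.toMonoidHom).map (MulAut.conj (e g)).toMonoidHom =
        (L.map (MulAut.conj g).toMonoidHom).map e.toMonoidHom := by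
      rw [Subgroup.map_map, Subgroup.map_map]
      congr 1
      ext y
      simp
    rw [hc, Subgroup.map_le_map_iff_of_injective e.injective]

/-- The sum of `c L` copies of `(S × S) ⧸ L`, over all subgroups `L`. -/
def Model (c : Subgroup (S × S) → ℕ) : Type _ :=
  Σ L : Subgroup (S × S), Fin (c L) × ((S × S) ⧸ L)

instance instMulActionModel (c : Subgroup (S × S) → ℕ) : MulAction (S × S) (Model c) where
  smul h x := ⟨x.1, x.2.1, h • x.2.2⟩
  one_smul x := by
    rcases x with ⟨L, i, q⟩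
    exact congrArg (fun z : (S × S) ⧸ L => (⟨L, i, z⟩ : Model c)) (one_smul _ q)
  mul_smul a b x := by
    rcases x with ⟨L, i, q⟩
    exact congrArg (fun z : (S × S) ⧸ L => (⟨L, i, z⟩ : Model c)) (mul_smul a b q)

instance instFiniteModel [Finite S] (c : Subgroup (S × S) → ℕ) : Finite (Model c) :=
  inferInstanceAs (Finite (Σ L : Subgroup (S × S), Fin (c L) × ((S × S) ⧸ L)))

/-- A point of the model. -/
def Model.point {c : Subgroup (S × S) → ℕ} (L : Subgroup (S × S)) (i : Fin (c L))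
    (q : (S × S) ⧸ L) : Model c := ⟨L, i, q⟩

theorem smul_mk_eq_iff {c : Subgroup (S × S) → ℕ} {h : S × S} {L : Subgroup (S × S)}
    {i : Fin (c L)} {q : (S × S) ⧸ L} :
    h • Model.point L i q = Model.point L i q ↔ h • q = q := by
  show Model.point L i (h • q) = Model.point L i q ↔ _
  constructor
  · intro e
    have e' : (⟨L, i, h • q⟩ : Σ L : Subgroup (S × S), Fin (c L) × ((S × S) ⧸ L)) = ⟨L, i, q⟩ := e
    exact (Prod.mk.injEq _ _ _ _).mp (eq_of_heq (Sigma.mk.injEq _ _ _ _ |>.mp e').2) |>.2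
  · intro e
    rw [e]

/-- The number of points of the model fixed by `K`. -/
noncomputable def mark (c : Subgroup (S × S) → ℕ) (K : Subgroup (S × S)) : ℕ :=
  Nat.card {x : Model c // ∀ k ∈ K, k • x = x}

variable [Finite S]

theorem mark_eq (c : Subgroup (S × S) → ℕ) [Fintype (Subgroup (S × S))] (K : Subgroup (S × S)) :
    mark c K = ∑ L, c L * mu L K := by
  have e : {x : Model c // ∀ k ∈ K, k • x = x} ≃
      Σ L : Subgroup (S × S), Fin (c L) × {q : (S × S) ⧸ L // ∀ k ∈ K, k • q = q} :=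
    { toFun := fun x => ⟨x.1.1, x.1.2.1, x.1.2.2, fun k hk =>
        (smul_mk_eq_iff (i := x.1.2.1)).1 (x.2 k hk)⟩
      invFun := fun y => ⟨⟨y.1, y.2.1, y.2.2.1⟩, fun k hk => smul_mk_eq_iff.2 (y.2.2.2 k hk)⟩
      left_inv := fun x => rfl
      right_inv := fun y => rfl }
  rw [mark, Nat.card_congr e, Nat.card_sigma]
  simp [Nat.card_prod, mu]

theorem mark_add_smul (e : ℕ) (c d : Subgroup (S × S) → ℕ) [Fintype (Subgroup (S × S))]
    (K : Subgroup (S × S)) :
    mark (fun L => e * c L + d L) K = e * mark c K + mark d K := by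
  simp only [mark_eq, add_mul, Finset.sum_add_distrib, Finset.mul_sum, mul_assoc]

theorem mark_conj (c : Subgroup (S × S) → ℕ) (K : Subgroup (S × S)) (g : S × S) :
    mark c (K.map (MulAut.conj g).toMonoidHom) = mark c K := by
  haveI := Fintype.ofFinite (Subgroup (S × S))
  simp only [mark_eq, mu_conj_right]

/-- All copies in the model come from maps of the system. -/
def Supp (F : FusionSystem S) (c : Subgroup (S × S) → ℕ) : Prop := ∀ L, c L ≠ 0 → Good F L

theorem Supp.good_of_fixed {c : Subgroup (S × S) → ℕ} (hc : Supp F c) {K : Subgroup (S × S)}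
    {x : Model c} (h : ∀ k ∈ K, k • x = x) : Good F K := by
  obtain ⟨L, i, q⟩ := x
  obtain ⟨g, rfl⟩ := QuotientGroup.mk_surjective q
  exact ((hc L (fun h0 => (h0 ▸ i).elim0)).conj g).1.mono
    (fixed_mk_iff.1 fun k hk => smul_mk_eq_iff.1 (h k hk))

theorem Supp.mark_eq_zero {c : Subgroup (S × S) → ℕ} (hc : Supp F c) {K : Subgroup (S × S)}
    (h : ¬ Good F K) : mark c K = 0 := by
  haveI : IsEmpty {x : Model c // ∀ k ∈ K, k • x = x} := ⟨fun x => h (hc.good_of_fixed x.2)⟩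
  exact Nat.card_of_isEmpty

/-- Marks depend only on the class of the source, for sources of size at least `n`. -/
def IsStableAbove (F : FusionSystem S) (c : Subgroup (S × S) → ℕ) (n : ℕ) : Prop :=
  ∀ K K' : Subgroup (S × S), Good F K → Good F K' → n ≤ Nat.card K →
    F.IsConj (src K) (src K') → mark c K = mark c K'

/-- A stable model: all twisted diagonals come from the system, marks depend on source classes. -/
def IsStable (F : FusionSystem S) (c : Subgroup (S × S) → ℕ) : Prop :=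
  Supp F c ∧ IsStableAbove F c 0

/-- The marks of a stable model are invariant under transport by maps. -/
theorem IsStable.mark_transport {c : Subgroup (S × S) → ℕ} (hc : IsStable F c)
    {K K' : Subgroup (S × S)} {M M' : Subgroup Ω} {f g : Ω → Ω} (hf : IsMap F M f)
    (hg : IsMap F M' g) (hK : ∀ a ∈ K, (a.1 : Ω) ∈ M ∧ (a.2 : Ω) ∈ M')
    (h1 : ∀ a ∈ K, ∃ b ∈ K', (b.1 : Ω) = f a.1 ∧ (b.2 : Ω) = g a.2)
    (h2 : ∀ b ∈ K', ∃ a ∈ K, (b.1 : Ω) = f a.1 ∧ (b.2 : Ω) = g a.2) :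
    mark c K = mark c K' := by
  obtain ⟨hiff, hconj⟩ := good_transport_iff (F := F) hf hg hK h1 h2
  by_cases h : Good F K
  · exact hc.2 K K' h (hiff.1 h) (Nat.zero_le _) (hconj h)
  · rw [hc.1.mark_eq_zero h, hc.1.mark_eq_zero fun h' => h (hiff.2 h')]

/-- `X` with the action pulled back along a homomorphism. -/
def Pull {G H : Type*} [Group G] [Group H] (_θ : G →* H) (X : Type*) : Type _ := X

instance instMulActionPull {G H X : Type*} [Group G] [Group H] [MulAction H X] (θ : G →* H) :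
    MulAction G (Pull θ X) := MulAction.compHom X θ

instance instFinitePull {G H X : Type*} [Group G] [Group H] [Finite X] (θ : G →* H) :
    Finite (Pull θ X) := ‹Finite X›

theorem ncard_fixIn_pull {G : Type*} [Group G] (c : Subgroup (S × S) → ℕ) (θ : G →* S × S)
    (L : Subgroup G) :
    (fixIn L (Set.univ : Set (Pull θ (Model c)))).ncard = mark c (L.map θ) := by
  rw [← Nat.card_coe_set_eq]
  refine Nat.card_congr
    { toFun := fun x => ⟨(x.1 : Model c), by rintro _ ⟨l, hl, rfl⟩; exact x.2.2 l hl⟩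
      invFun := fun y => ⟨(y.1 : Pull θ (Model c)), trivial, fun l hl => y.2 _ ⟨l, hl, rfl⟩⟩
      left_inv := fun x => rfl
      right_inv := fun y => rfl }

/-- A stable model is invariant under every map of the system. -/
theorem IsStable.exists_equiv_of_isMap {c : Subgroup (S × S) → ℕ} (hc : IsStable F c)
    {P : Subgroup Ω} {f : Ω → Ω} (hf : IsMap F P f) :
    ∃ e : Equiv.Perm (Model c), ∀ (u v : S) (b : S), (u : Ω) ∈ P → (v : Ω) = f u →
      ∀ x, e ((u, b) • x) = (v, b) • e x := by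
  let φ : P.subgroupOf S →* S := MonoidHom.mk' (fun u => ⟨f (u.1 : Ω), hf.mem u.2⟩)
    (fun a b => Subtype.ext (hf.map_mul a.2 b.2))
  let θ₁ : P.subgroupOf S × S →* S × S :=
    MonoidHom.prodMap (P.subgroupOf S).subtype (MonoidHom.id S)
  let θ₂ : P.subgroupOf S × S →* S × S := MonoidHom.prodMap φ (MonoidHom.id S)
  have h : ∀ L : Subgroup (P.subgroupOf S × S),
      (fixIn L (Set.univ : Set (Pull θ₁ (Model c)))).ncard =
        (fixIn L (Set.univ : Set (Pull θ₂ (Model c)))).ncard := by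
    intro L
    rw [ncard_fixIn_pull, ncard_fixIn_pull]
    refine hc.mark_transport hf (IsMap.id (F := F) (le_refl S)) ?_ ?_ ?_
    · rintro _ ⟨l, -, rfl⟩
      exact ⟨l.1.2, l.2.2⟩
    · rintro _ ⟨l, hl, rfl⟩
      exact ⟨θ₂ l, ⟨l, hl, rfl⟩, rfl, rfl⟩
    · rintro _ ⟨l, hl, rfl⟩
      exact ⟨θ₁ l, ⟨l, hl, rfl⟩, rfl, rfl⟩
  obtain ⟨e, he⟩ := exists_equivariant_equiv h
  refine ⟨e, fun u v b hu hv x => ?_⟩
  have hv' : v = φ ⟨u, hu⟩ := Subtype.ext hv
  rw [hv']
  exact he (⟨u, hu⟩, b) x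

end Cfsg.Agent.Biset
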